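import Mathlib
import Groth.Prelude.Def_W4c1chowmix47Eta

/-! Foundations for the `EtaPt` cluster (pointwise construction attached to an endofunctor of
fields). -/

set_option autoImplicit false

open EtaPt

universe u

namespace Groth.Agent.H8.EtaLib

variable (η : FieldEndo.{u})

/-! ### Field-level facts -/

lemma map_injective {K L : Type u} [Field K] [Field L] (f : K →+* L) :
    Function.Injective (η.map f) := (η.map f).injective

lemma eta_injective (K : Type u) [Field K] : Function.Injective (η.eta K) := (η.eta K).injective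

lemma eta_natural_apply {K L : Type u} [Field K] [Field L] (f : K →+* L) (x : K) :
    η.map f (η.eta K x) = η.eta L (f x) :=
  congrArg (fun h => h x) (congrArg DFunLike.coe (η.eta_natural f))

/-- In a reduced ring receiving a homomorphism from the field `K`, taking `q^n`-th powers is
injective, `q` the exponential characteristic of `K`. -/
lemma pow_expChar_inj {K : Type u} [Field K] {E : Type*} [CommRing E] [IsReduced E]
    [Nontrivial E] (f : K →+* E) (n : ℕ) {a b : E}
    (h : a ^ ringExpChar K ^ n = b ^ ringExpChar K ^ n) : a = b := by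
  have : ExpChar E (ringExpChar K) := expChar_of_injective_ringHom f.injective _
  apply iterateFrobenius_inj E (ringExpChar K) n
  simpa [iterateFrobenius_def] using h

/-- Ring homomorphisms out of `F K` into a reduced ring are determined by their restriction along
`η_K`. -/
lemma hom_ext {K : Type u} [Field K] {E : Type*} [CommRing E] [IsReduced E] [Nontrivial E]
    {φ ψ : η.obj K →+* E} (h : φ.comp (η.eta K) = ψ.comp (η.eta K)) : φ = ψ := by
  ext x
  obtain ⟨n, a, ha⟩ := η.exists_pow_mem_range_eta K x
  apply pow_expChar_inj (φ.comp (η.eta K)) n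
  rw [← map_pow, ← map_pow, ← ha]
  exact congrArg (fun g => g a) (congrArg DFunLike.coe h)

lemma eta_obj (K : Type u) [Field K] : η.eta (η.obj K) = η.map (η.eta K) := by
  apply hom_ext η
  rw [η.eta_natural (η.eta K)]

lemma bijective_eta_obj (K : Type u) [Field K] : Function.Bijective (η.eta (η.obj K)) := by
  rw [eta_obj]; exact η.bijective_map_eta K

lemma map_bijective_of_bijective {K L : Type u} [Field K] [Field L] (f : K →+* L)
    (hf : Function.Bijective f) : Function.Bijective (η.map f) := by
  let e := RingEquiv.ofBijective f hf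
  have h1 : (η.map (e.symm : L →+* K)).comp (η.map f) = RingHom.id _ := by
    rw [← η.map_comp, ← η.map_id]
    congr 1
    ext x
    exact e.symm_apply_apply x
  have h2 : (η.map f).comp (η.map (e.symm : L →+* K)) = RingHom.id _ := by
    rw [← η.map_comp, ← η.map_id]
    congr 1
    ext x
    exact e.apply_symm_apply x
  refine ⟨map_injective η f, fun y => ⟨η.map (e.symm : L →+* K) y, ?_⟩⟩
  exact congrArg (fun g => g y) (congrArg DFunLike.coe h2)

/-- Bijectivity of `η` transports along field isomorphisms. -/
lemma bijective_eta_of_bijective {K L : Type u} [Field K] [Field L] (f : K →+* L)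
    (hf : Function.Bijective f) (h : Function.Bijective (η.eta K)) :
    Function.Bijective (η.eta L) := by
  have h1 : (η.eta L).comp f = (η.map f).comp (η.eta K) := (η.eta_natural f).symm
  have h2 : Function.Bijective ((η.eta L).comp f) := by
    rw [h1]
    exact (map_bijective_of_bijective η f hf).comp h
  have h3 : Function.Bijective ((η.eta L) ∘ f) := h2
  exact (Function.Bijective.of_comp_iff _ hf).mp h3

lemma bijective_eta_iff_of_bijective {K L : Type u} [Field K] [Field L] (f : K →+* L)
    (hf : Function.Bijective f) :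
    Function.Bijective (η.eta K) ↔ Function.Bijective (η.eta L) := by
  refine ⟨bijective_eta_of_bijective η f hf, fun h => ?_⟩
  let e := RingEquiv.ofBijective f hf
  exact bijective_eta_of_bijective η (e.symm : L →+* K) e.symm.bijective h

section N
variable {A B C : Type u} [CommRing A] [CommRing B] [CommRing C]

lemma t_apply (a : A) (p : PrimeSpectrum A) :
    η.t A a p = η.eta p.asIdeal.ResidueField (algebraMap A p.asIdeal.ResidueField a) := rfl

lemma Nmap_apply (f : A →+* B) (x : η.N A) (q : PrimeSpectrum B) :
    η.Nmap f x q = η.map (Ideal.ResidueField.map (PrimeSpectrum.comap f q).asIdeal q.asIdeal f rfl)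
      (x (PrimeSpectrum.comap f q)) := rfl

lemma Nmap_apply_of_eq (f : A →+* B) (x : η.N A) (q : PrimeSpectrum B) (p : PrimeSpectrum A)
    (h : p.asIdeal = q.asIdeal.comap f) :
    η.Nmap f x q = η.map (Ideal.ResidueField.map p.asIdeal q.asIdeal f h) (x p) := by
  obtain rfl : p = PrimeSpectrum.comap f q := PrimeSpectrum.ext h
  rfl

lemma resMap_algebraMap (f : A →+* B) (q : PrimeSpectrum B) (a : A) :
    Ideal.ResidueField.map (PrimeSpectrum.comap f q).asIdeal q.asIdeal f rfl
      (algebraMap A (PrimeSpectrum.comap f q).asIdeal.ResidueField a) =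
    algebraMap B q.asIdeal.ResidueField (f a) :=
  Ideal.ResidueField.map_algebraMap _ _ f rfl a

lemma resMap_comp (f : A →+* B) (g : B →+* C) (r : PrimeSpectrum C) :
    (Ideal.ResidueField.map (PrimeSpectrum.comap g r).asIdeal r.asIdeal g rfl).comp
      (Ideal.ResidueField.map (PrimeSpectrum.comap f (PrimeSpectrum.comap g r)).asIdeal
        (PrimeSpectrum.comap g r).asIdeal f rfl) =
    Ideal.ResidueField.map (PrimeSpectrum.comap f (PrimeSpectrum.comap g r)).asIdeal r.asIdeal
      (g.comp f) rfl := by
  apply Ideal.ResidueField.ringHom_ext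
  ext a
  simp only [RingHom.comp_apply]
  rw [resMap_algebraMap, resMap_algebraMap]
  exact (Ideal.ResidueField.map_algebraMap _ _ (g.comp f) rfl a).symm

lemma Nmap_comp_apply (f : A →+* B) (g : B →+* C) (x : η.N A) :
    η.Nmap (g.comp f) x = η.Nmap g (η.Nmap f x) := by
  funext r
  rw [Nmap_apply η g, Nmap_apply η f,
    Nmap_apply_of_eq η (g.comp f) x r (PrimeSpectrum.comap f (PrimeSpectrum.comap g r)) rfl,
    ← RingHom.comp_apply, ← η.map_comp, resMap_comp]

lemma Nmap_comp (f : A →+* B) (g : B →+* C) :
    η.Nmap (g.comp f) = (η.Nmap g).comp (η.Nmap f) :=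
  RingHom.ext fun x => Nmap_comp_apply η f g x

lemma Nmap_id_apply (x : η.N A) : η.Nmap (RingHom.id A) x = x := by
  funext p
  rw [Nmap_apply_of_eq η (RingHom.id A) x p p rfl]
  have : Ideal.ResidueField.map p.asIdeal p.asIdeal (RingHom.id A) rfl = RingHom.id _ := by
    apply Ideal.ResidueField.ringHom_ext
    ext a
    simp only [RingHom.comp_apply]
    exact Ideal.ResidueField.map_algebraMap _ _ (RingHom.id A) rfl a
  rw [this, η.map_id]
  rfl

lemma Nmap_mem_M (f : A →+* B) {x : η.N A} (hx : x ∈ η.M A) : η.Nmap f x ∈ η.M B := by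
  intro R _ _ _ hR g
  rw [← Nmap_comp_apply]
  exact hx R hR (g.comp f)

lemma mem_M_iff {x : η.N A} : x ∈ η.M A ↔
    ∀ (R : Type u) [CommRing R] [IsDomain R] [ValuationRing R], η.InV R →
      ∀ g : A →+* R, ∃ r : R, η.t R r = η.Nmap g x := Iff.rfl

end N

section Domain

variable (R : Type u) [CommRing R] [IsDomain R]

/-- the generic point of a domain -/
abbrev gen : PrimeSpectrum R := ⟨⊥, Ideal.isPrime_bot⟩

lemma inV_iff_of_isFractionRing (K : Type u) [Field K] [Algebra R K] [IsFractionRing R K] :
    η.InV R ↔ Function.Bijective (η.eta K) :=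
  bijective_eta_iff_of_bijective η ((FractionRing.algEquiv R K : FractionRing R ≃ₐ[R] K) :
    FractionRing R →+* K) (FractionRing.algEquiv R K).bijective

lemma inV_iff_gen : η.InV R ↔ Function.Bijective (η.eta (gen R).asIdeal.ResidueField) :=
  inV_iff_of_isFractionRing η R _

lemma algebraMap_gen_injective :
    Function.Injective (algebraMap R (gen R).asIdeal.ResidueField) :=
  IsFractionRing.injective R _

end Domain

/-- The key computation with purely inseparable elements: if `x ^ q ^ n = η a` in `F K`, then for
`f : K → L` and `s : L`, `F f x = η s` iff `s ^ q ^ n = f a`. -/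
lemma map_eq_eta_iff {K L : Type u} [Field K] [Field L] (f : K →+* L) {x : η.obj K} {n : ℕ}
    {a : K} (ha : η.eta K a = x ^ ringExpChar K ^ n) (s : L) :
    η.map f x = η.eta L s ↔ s ^ ringExpChar K ^ n = f a := by
  constructor
  · intro h
    apply eta_injective η L
    rw [map_pow, ← h, ← map_pow, ← ha, eta_natural_apply]
  · intro h
    apply pow_expChar_inj ((η.map f).comp (η.eta K)) n
    rw [← map_pow, ← map_pow, ← ha, h, eta_natural_apply]

/-- A valuation subring of `L` containing the image of `ψ : C → L` and centered at a given prime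
containing `ker ψ`. -/
lemma exists_valuationSubring_center {C : Type u} [CommRing C] {L : Type u} [Field L]
    (ψ : C →+* L) (P : Ideal C) [P.IsPrime] (hker : RingHom.ker ψ ≤ P) :
    ∃ (V : ValuationSubring L) (h : ∀ c, ψ c ∈ V.toSubring),
      (IsLocalRing.maximalIdeal V).comap (ψ.codRestrict V.toSubring h) = P := by
  have hunit : ∀ y : P.primeCompl, IsUnit (ψ y) := by
    intro y
    rw [isUnit_iff_ne_zero]
    intro h0
    exact y.2 (hker (RingHom.mem_ker.mpr h0))
  let f : Localization.AtPrime P →+* L := IsLocalization.lift hunit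
  have hf : ∀ c, f (algebraMap C _ c) = ψ c := fun c => IsLocalization.lift_eq hunit c
  obtain ⟨V, hV, hloc⟩ := IsLocalRing.exists_factor_valuationRing f
  have h : ∀ c, ψ c ∈ V.toSubring := fun c => by rw [← hf]; exact hV _
  refine ⟨V, h, ?_⟩
  ext c
  rw [Ideal.mem_comap, IsLocalRing.mem_maximalIdeal, mem_nonunits_iff]
  have hcod : ψ.codRestrict V.toSubring h c = f.codRestrict V.toSubring hV (algebraMap C _ c) :=
    Subtype.ext (hf c).symm
  rw [hcod]
  constructor
  · intro hnu
    by_contra hc
    apply hnu
    have : IsUnit (algebraMap C (Localization.AtPrime P) c) :=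
      IsLocalization.map_units (M := P.primeCompl) _ ⟨c, hc⟩
    exact this.map _
  · intro hc hu
    have := hloc.map_nonunit _ hu
    exact (IsLocalization.AtPrime.isUnit_to_map_iff (Localization.AtPrime P) P c).mp this hc

end Groth.Agent.H8.EtaLib
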