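import Mathlib
import Groth.Prelude.Def_W4c1chowmix47Eta
import Groth.Agent.Lib.Helper8.EtaPt.Basic

/-! Valuation-ring arguments for the `EtaPt` cluster. -/

set_option autoImplicit false
open EtaPt
universe u
namespace Groth.Agent.H8.EtaLib
variable (η : FieldEndo.{u})

/-- Elements of a valuation ring `R ∈ V_η`: an element of `N R` whose components are all of the
form `F(res)(x)` for a single purely inseparable datum is in the range of `t`. More precisely:
if `r ^ q ^ n = c` in `R`, ... -/
lemma t_eq_of_pow_eq {R : Type u} [CommRing R] {K : Type u} [Field K] {x : η.obj K} {n : ℕ}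
    {a : K} (ha : η.eta K a = x ^ ringExpChar K ^ n) (q : PrimeSpectrum R)
    (f : K →+* q.asIdeal.ResidueField) (r c : R) (hrc : r ^ ringExpChar K ^ n = c)
    (hfa : f a = algebraMap R q.asIdeal.ResidueField c) :
    η.t R r q = η.map f x := by
  rw [t_apply, eq_comm, map_eq_eta_iff η f ha, hfa, ← hrc, map_pow]

theorem M_field_eq_top (K : Type u) [Field K] : η.M K = ⊤ := by
  rw [eq_top_iff]
  intro x _ R _ _ _ hR g
  -- the unique prime of K
  let p₀ : PrimeSpectrum K := default
  obtain ⟨n, a, ha⟩ := η.exists_pow_mem_range_eta p₀.asIdeal.ResidueField (x p₀)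
  have : p₀.asIdeal.IsMaximal := by
    have : p₀.asIdeal = ⊥ := Ideal.eq_bot_of_prime p₀.asIdeal
    rw [this]; exact Ideal.bot_isMaximal
  obtain ⟨b, rfl⟩ := Ideal.algebraMap_residueField_surjective p₀.asIdeal a
  have hp : ∀ q : PrimeSpectrum R, p₀.asIdeal = q.asIdeal.comap g := fun q =>
    congrArg PrimeSpectrum.asIdeal (Subsingleton.elim p₀ (PrimeSpectrum.comap g q))
  -- the generic component
  rw [inV_iff_gen] at hR
  obtain ⟨s, hs⟩ := hR.2 (η.Nmap g x (gen R))
  rw [Nmap_apply_of_eq η g x (gen R) p₀ (hp _)] at hs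
  have hs' := (map_eq_eta_iff η _ ha s).mp hs.symm
  rw [Ideal.ResidueField.map_algebraMap] at hs'
  -- s is integral over R hence in R
  have hsint : IsIntegral R s := by
    have hpos : 0 < ringExpChar p₀.asIdeal.ResidueField ^ n := by
      apply pow_pos
      exact expChar_pos p₀.asIdeal.ResidueField (ringExpChar p₀.asIdeal.ResidueField)
    refine IsIntegral.of_pow hpos ?_
    rw [hs']
    exact isIntegral_algebraMap
  obtain ⟨r, rfl⟩ := IsIntegrallyClosed.algebraMap_eq_of_integral hsint
  have hr : r ^ ringExpChar p₀.asIdeal.ResidueField ^ n = g b := by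
    apply algebraMap_gen_injective R
    rw [map_pow, hs']
  refine ⟨r, ?_⟩
  funext q
  rw [Nmap_apply_of_eq η g x q p₀ (hp q)]
  exact t_eq_of_pow_eq η ha q _ r (g b) hr (Ideal.ResidueField.map_algebraMap _ _ g (hp q) b)

section Center

variable {A : Type u} [CommRing A] (p₀ : PrimeSpectrum A)

/-- `A → κ(p₀) → F κ(p₀)` -/
noncomputable def phi : A →+* η.obj p₀.asIdeal.ResidueField :=
  (η.eta p₀.asIdeal.ResidueField).comp (algebraMap A p₀.asIdeal.ResidueField)

lemma phi_apply (a : A) : phi η p₀ a = η.eta _ (algebraMap A p₀.asIdeal.ResidueField a) := rfl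

lemma phi_eq_t (a : A) : phi η p₀ a = η.t A a p₀ := rfl

lemma ker_phi : RingHom.ker (phi η p₀) = p₀.asIdeal := by
  ext a
  rw [RingHom.mem_ker, phi_apply, map_eq_zero, Ideal.algebraMap_residueField_eq_zero]

variable (V : ValuationSubring (η.obj p₀.asIdeal.ResidueField))
  (h : ∀ a, phi η p₀ a ∈ V.toSubring)

lemma inV_valuationSubring {K : Type u} [Field K] (V : ValuationSubring (η.obj K)) : η.InV V :=
  (inV_iff_of_isFractionRing η V (η.obj K)).mpr (bijective_eta_obj η K)

lemma comap_gen_eq :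
    p₀.asIdeal = (gen V).asIdeal.comap ((phi η p₀).codRestrict V.toSubring h) := by
  ext a
  change a ∈ p₀.asIdeal ↔ (phi η p₀).codRestrict V.toSubring h a ∈ (⊥ : Ideal V)
  rw [Ideal.mem_bot]
  have hk : a ∈ p₀.asIdeal ↔ phi η p₀ a = 0 := by
    rw [← RingHom.mem_ker, ker_phi]
  rw [hk]
  constructor
  · intro ha; exact Subtype.ext ha
  · intro ha; exact congrArg Subtype.val ha

/-- The key lemma: for `x ∈ M A` and a valuation subring `V` of `F κ(p₀)` containing the image of
`A`, the component `x p₀` lies in `V` and `N(g) x = t_V (x p₀)`. -/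
theorem exists_mem_and_Nmap_eq {x : η.N A} (hx : x ∈ η.M A) :
    ∃ hxV : x p₀ ∈ V,
      η.Nmap ((phi η p₀).codRestrict V.toSubring h) x = η.t V ⟨x p₀, hxV⟩ := by
  set g := (phi η p₀).codRestrict V.toSubring h with hg
  obtain ⟨r, hr⟩ := hx V (inV_valuationSubring η V) g
  -- the canonical iso κ(gen V) ≅ L
  let L := η.obj p₀.asIdeal.ResidueField
  let ι : (gen V).asIdeal.ResidueField →+* L :=
    (IsLocalization.algEquiv (nonZeroDivisors V) (gen V).asIdeal.ResidueField L :
      (gen V).asIdeal.ResidueField →+* L)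
  have hι : ∀ v : V, ι (algebraMap V _ v) = (v : L) := fun v =>
    (IsLocalization.algEquiv (nonZeroDivisors V) (gen V).asIdeal.ResidueField L).commutes v
  have hgen := comap_gen_eq η p₀ V h
  have hcomp : ι.comp (Ideal.ResidueField.map p₀.asIdeal (gen V).asIdeal g hgen) =
      η.eta p₀.asIdeal.ResidueField := by
    apply Ideal.ResidueField.ringHom_ext
    ext a
    simp only [RingHom.comp_apply]
    rw [Ideal.ResidueField.map_algebraMap, hι]
    rfl
  have h1 : η.t V r (gen V) = η.Nmap g x (gen V) := congrFun hr (gen V)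
  rw [Nmap_apply_of_eq η g x (gen V) p₀ hgen, t_apply] at h1
  have h2 := congrArg (η.map ι) h1
  rw [eta_natural_apply, hι, ← RingHom.comp_apply, ← η.map_comp, hcomp, ← eta_obj] at h2
  have h3 : (r : L) = x p₀ := eta_injective η _ h2
  have hxV : x p₀ ∈ V := h3 ▸ r.2
  refine ⟨hxV, ?_⟩
  rw [← hr]
  congr 1
  exact Subtype.ext h3

/-- Vanishing at `p₀` propagates to all primes containing `p₀`. -/
theorem eq_zero_of_le {x : η.N A} (hx : x ∈ η.M A) (h0 : x p₀ = 0) (p : PrimeSpectrum A)
    (hle : p₀.asIdeal ≤ p.asIdeal) : x p = 0 := by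
  obtain ⟨V, h, hc⟩ := exists_valuationSubring_center (phi η p₀) p.asIdeal
    (by rw [ker_phi]; exact hle)
  obtain ⟨hxV, hN⟩ := exists_mem_and_Nmap_eq η p₀ V h hx
  set g := (phi η p₀).codRestrict V.toSubring h with hg
  let c : PrimeSpectrum V := IsLocalRing.closedPoint V
  have h1 : η.Nmap g x c = η.t V ⟨x p₀, hxV⟩ c := congrFun hN c
  have hzero : (⟨x p₀, hxV⟩ : V) = 0 := Subtype.ext h0
  rw [hzero, map_zero, Nmap_apply_of_eq η g x c p hc.symm] at h1
  exact (map_eq_zero _).mp h1

/-- Every component of an element of `M A` is integral over `A`. -/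
theorem isIntegralElem_phi {x : η.N A} (hx : x ∈ η.M A) :
    (phi η p₀).IsIntegralElem (x p₀) := by
  let _ : Algebra A (η.obj p₀.asIdeal.ResidueField) := (phi η p₀).toAlgebra
  show IsIntegral A (x p₀)
  by_contra hni
  have hni' : x p₀ ∉ (integralClosure A (η.obj p₀.asIdeal.ResidueField)).toSubring := hni
  obtain ⟨V, hV, hxV⟩ := Subring.exists_le_valuationSubring_of_isIntegrallyClosedIn hni'
  have h : ∀ a, phi η p₀ a ∈ V.toSubring := fun a =>
    hV (isIntegral_algebraMap (R := A) (A := η.obj p₀.asIdeal.ResidueField) (x := a))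
  obtain ⟨hxV', -⟩ := exists_mem_and_Nmap_eq η p₀ V h hx
  exact hxV hxV'

end Center

section Integral

variable {A : Type u} [CommRing A]

lemma subtype_comp_q : (η.M A).subtype.comp (η.q A) = η.t A := rfl

lemma eval₂_t_apply (x : η.N A) (P : Polynomial A) (p : PrimeSpectrum A) :
    (Polynomial.eval₂ (η.t A) x P) p = Polynomial.eval₂ (phi η p) (x p) P := by
  have := Polynomial.hom_eval₂ P (η.t A)
    (Pi.evalRingHom (fun p : PrimeSpectrum A => η.obj p.asIdeal.ResidueField) p) x
  exact this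

lemma eval₂_t_mem_M {x : η.N A} (hx : x ∈ η.M A) (P : Polynomial A) :
    Polynomial.eval₂ (η.t A) x P ∈ η.M A := by
  rw [Polynomial.eval₂_eq_sum_range]
  exact Subring.sum_mem _ fun i _ => Subring.mul_mem _ (η.t_mem_M A _) (Subring.pow_mem _ hx i)

theorem q_isIntegral (hA : (minimalPrimes A).Finite) : (η.q A).IsIntegral := by
  classical
  intro y
  have hy : (y : η.N A) ∈ η.M A := y.2
  -- a monic polynomial for each minimal prime
  have hex : ∀ I : Ideal A, ∃ P : Polynomial A, P.Monic ∧
      (I ∈ minimalPrimes A → ∀ p : PrimeSpectrum A, I ≤ p.asIdeal →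
        Polynomial.eval₂ (phi η p) ((y : η.N A) p) P = 0) := by
    intro I
    by_cases hI : I ∈ minimalPrimes A
    · have hprime : I.IsPrime := Ideal.IsMinimalPrime.isPrime hI
      let p₀ : PrimeSpectrum A := ⟨I, hprime⟩
      obtain ⟨P, hP, hP0⟩ := isIntegralElem_phi η p₀ hy
      refine ⟨P, hP, fun _ p hle => ?_⟩
      have hz := eval₂_t_mem_M η hy P
      have h0 : (Polynomial.eval₂ (η.t A) (y : η.N A) P) p₀ = 0 := by
        rw [eval₂_t_apply]; exact hP0
      have := eq_zero_of_le η p₀ hz h0 p hle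
      rwa [eval₂_t_apply] at this
    · exact ⟨1, Polynomial.monic_one, fun h => absurd h hI⟩
  choose Pf hPf hPf0 using hex
  refine ⟨∏ I ∈ hA.toFinset, Pf I, Polynomial.monic_prod_of_monic _ _ fun I _ => hPf I, ?_⟩
  apply (η.M A).subtype_injective
  rw [Polynomial.hom_eval₂, subtype_comp_q, map_zero]
  funext p
  rw [eval₂_t_apply, Polynomial.eval₂_finsetProd]
  obtain ⟨I, hI, hle⟩ := Ideal.exists_minimalPrimes_le (bot_le : (⊥ : Ideal A) ≤ p.asIdeal)
  have hI' : I ∈ minimalPrimes A := hI
  exact Finset.prod_eq_zero (hA.mem_toFinset.mpr hI') (hPf0 I hI' p hle)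

end Integral

end Groth.Agent.H8.EtaLib
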