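import Mathlib
import Groth.Prelude.Def_W4c1chowmix47Eta
import Groth.Agent.Lib.Helper8.EtaPt.Val

set_option autoImplicit false
open EtaPt
universe u
namespace Groth.Agent.H8.EtaLib
variable (η : FieldEndo.{u})

section DomainM

variable (A : Type u) [CommRing A] [IsDomain A]

theorem injOn_gen : Set.InjOn (fun x : η.N A => x ⟨⊥, Ideal.isPrime_bot⟩) (η.M A) := by
  intro x hx y hy hxy
  have hsub : x - y ∈ η.M A := Subring.sub_mem _ hx hy
  have h0 : (x - y) (gen A) = 0 := by
    show x (gen A) - y (gen A) = 0
    exact sub_eq_zero.mpr hxy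
  funext p
  have := eq_zero_of_le η (gen A) hsub h0 p bot_le
  exact sub_eq_zero.mp this

theorem q_bijective_of_isIntegrallyClosed [IsIntegrallyClosed A] (hA : η.InV A) :
    Function.Bijective (η.q A) := by
  constructor
  · intro a b hab
    have h1 : η.t A a (gen A) = η.t A b (gen A) := by
      have := congrArg Subtype.val hab
      exact congrFun this (gen A)
    rw [t_apply, t_apply] at h1
    exact algebraMap_gen_injective A (eta_injective η _ h1)
  · intro x
    obtain ⟨s, hs⟩ := ((inV_iff_gen η A).mp hA).2 ((x : η.N A) (gen A))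
    obtain ⟨P, hP, hP0⟩ := isIntegralElem_phi η (gen A) x.2
    have hint : IsIntegral A s := by
      refine ⟨P, hP, ?_⟩
      apply eta_injective η
      rw [Polynomial.hom_eval₂, map_zero, hs]
      exact hP0
    obtain ⟨a, rfl⟩ := IsIntegrallyClosed.algebraMap_eq_of_integral hint
    refine ⟨a, Subtype.ext ?_⟩
    exact injOn_gen η A (η.t_mem_M A a) x.2 hs

end DomainM

end Groth.Agent.H8.EtaLib
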