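import Mathlib
import Groth.Prelude.Def_W4c1chowmix47Eta
import Groth.Agent.Lib.Helper8.EtaPt.Dom

set_option autoImplicit false
open EtaPt
universe u
namespace Groth.Agent.H8.EtaLib
variable (η : FieldEndo.{u})

section Factor

variable {A B : Type u} [CommRing A] [CommRing B] (f : A →+* B)

/-- S13811 -/
theorem exists_factor (hf : f.IsIntegral) (hN : Function.Bijective (η.Nmap f))
    (R : Type u) [CommRing R] [IsDomain R] [ValuationRing R] (hR : η.InV R) (g : A →+* R) :
    ∃ g' : B →+* R, g'.comp f = g := by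
  have hK := (inV_iff_gen η R).mp hR
  let eK := RingEquiv.ofBijective (η.eta (gen R).asIdeal.ResidueField) hK
  let eN := RingEquiv.ofBijective (η.Nmap f) hN
  let ψ : B →+* (gen R).asIdeal.ResidueField :=
    (eK.symm : _ →+* _).comp ((Pi.evalRingHom _ (gen R)).comp ((η.Nmap g).comp
      ((eN.symm : _ →+* _).comp (η.t B))))
  have hψf : ∀ a, ψ (f a) = algebraMap R _ (g a) := by
    intro a
    show eK.symm ((η.Nmap g (eN.symm (η.t B (f a)))) (gen R)) = _
    have h1 : eN.symm (η.t B (f a)) = η.t A a := by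
      rw [RingEquiv.symm_apply_eq]
      exact (η.Nmap_t_apply f a).symm
    rw [h1, η.Nmap_t_apply, RingEquiv.symm_apply_eq]
    rfl
  have hint : ∀ b, IsIntegral R (ψ b) := by
    intro b
    obtain ⟨P, hP, hP0⟩ := hf b
    refine ⟨P.map g, hP.map g, ?_⟩
    rw [Polynomial.eval₂_map]
    have : (algebraMap R (gen R).asIdeal.ResidueField).comp g = ψ.comp f := by
      ext a; exact (hψf a).symm
    rw [this, ← Polynomial.hom_eval₂, hP0, map_zero]
  have hmem : ∀ b, ψ b ∈ (algebraMap R (gen R).asIdeal.ResidueField).range := by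
    intro b
    obtain ⟨r, hr⟩ := IsIntegrallyClosed.algebraMap_eq_of_integral (hint b)
    exact ⟨r, hr⟩
  let e := RingEquiv.ofBijective (algebraMap R (gen R).asIdeal.ResidueField).rangeRestrict
    ⟨fun a b hab => algebraMap_gen_injective R (congrArg Subtype.val hab),
      RingHom.rangeRestrict_surjective _⟩
  refine ⟨(e.symm : _ →+* _).comp (ψ.codRestrict _ hmem), ?_⟩
  ext a
  show e.symm (ψ.codRestrict _ hmem (f a)) = g a
  rw [RingEquiv.symm_apply_eq]
  apply Subtype.ext
  exact hψf a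

/-- S13812 -/
theorem bijOn_M (hf : f.IsIntegral) (hN : Function.Bijective (η.Nmap f)) :
    Set.BijOn (η.Nmap f) (η.M A) (η.M B) := by
  refine ⟨fun x hx => Nmap_mem_M η f hx, hN.1.injOn, ?_⟩
  intro y hy
  obtain ⟨x, rfl⟩ := hN.2 y
  refine ⟨x, ?_, rfl⟩
  intro R _ _ _ hR g
  obtain ⟨g', rfl⟩ := exists_factor η f hf hN R hR g
  rw [Nmap_comp_apply]
  exact hy R hR g'

end Factor

end Groth.Agent.H8.EtaLib
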