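import Mathlib
import Groth.Prelude.Def_W4c1chowmix47Eta
import Groth.Agent.Lib.Helper8.EtaPt.Factor

set_option autoImplicit false
open EtaPt
universe u
namespace Groth.Agent.H8.EtaLib
variable (η : FieldEndo.{u})

section Detect

variable {R : Type u} [CommRing R] [IsDomain R] [ValuationRing R]

/-- Detection of `range t_R` by injective local maps into valuation subrings of a fixed field. -/
theorem mem_range_t_of_forall (hR : η.InV R) {L : Type u} [Field L] (ρ : R →+* L)
    (hρ : Function.Injective ρ) (z : η.N R)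
    (H : ∀ q : PrimeSpectrum R, ∃ (V : ValuationSubring L) (h : ∀ r, ρ r ∈ V.toSubring),
      (IsLocalRing.maximalIdeal V).comap (ρ.codRestrict V.toSubring h) = q.asIdeal ∧
        ∃ v : V, η.t V v = η.Nmap (ρ.codRestrict V.toSubring h) z) :
    ∃ r : R, η.t R r = z := by
  have hK := (inV_iff_gen η R).mp hR
  obtain ⟨s, hs⟩ := hK.2 (z (gen R))
  -- general facts for each `V`
  have key : ∀ (V : ValuationSubring L) (h : ∀ r, ρ r ∈ V.toSubring) (v : V),
      η.t V v = η.Nmap (ρ.codRestrict V.toSubring h) z →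
      ∃ h0 : (gen R).asIdeal = (gen V).asIdeal.comap (ρ.codRestrict V.toSubring h),
        Ideal.ResidueField.map (gen R).asIdeal (gen V).asIdeal (ρ.codRestrict V.toSubring h) h0 s =
          algebraMap V _ v := by
    intro V h v hv
    have hι : Function.Injective (ρ.codRestrict V.toSubring h) := fun a b hab =>
      hρ (congrArg Subtype.val hab)
    have h0 : (gen R).asIdeal = (gen V).asIdeal.comap (ρ.codRestrict V.toSubring h) :=
      ((RingHom.injective_iff_ker_eq_bot _).mp hι).symm
    refine ⟨h0, ?_⟩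
    have h1 := congrFun hv (gen V)
    rw [Nmap_apply_of_eq η _ z (gen V) (gen R) h0, t_apply, ← hs, eta_natural_apply] at h1
    exact (eta_injective η _ h1).symm
  -- `s` is integral
  have hsR : ∃ r : R, algebraMap R _ r = s := by
    by_cases hs0 : s = 0
    · exact ⟨0, by rw [hs0, map_zero]⟩
    rcases ValuationRing.isInteger_or_isInteger R s with ⟨r, hr⟩ | ⟨r, hr⟩
    · exact ⟨r, hr⟩
    · by_cases hu : IsUnit r
      · obtain ⟨u, rfl⟩ := hu
        refine ⟨((u⁻¹ : Rˣ) : R), ?_⟩
        have h1 : algebraMap R (gen R).asIdeal.ResidueField ((u⁻¹ : Rˣ) : R) *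
            algebraMap R _ (u : R) = 1 := by
          rw [← map_mul, Units.inv_mul, map_one]
        rw [hr] at h1
        field_simp at h1
        exact h1
      · exfalso
        obtain ⟨V, h, hq, v, hv⟩ := H (IsLocalRing.closedPoint R)
        obtain ⟨h0, hres⟩ := key V h v hv
        set ι := ρ.codRestrict V.toSubring h with hιdef
        have hrm : (show V from ι r) ∈ IsLocalRing.maximalIdeal V := by
          have : r ∈ (IsLocalRing.closedPoint R).asIdeal := (IsLocalRing.mem_maximalIdeal r).mpr hu
          rw [← hq] at this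
          exact this
        have h2 : Ideal.ResidueField.map (gen R).asIdeal (gen V).asIdeal ι h0 s⁻¹ =
            algebraMap V _ (ι r) := by
          rw [← hr]
          exact Ideal.ResidueField.map_algebraMap _ _ ι h0 r
        have h3 : algebraMap V (gen V).asIdeal.ResidueField (v * ι r) = algebraMap V _ 1 := by
          rw [map_mul, ← hres, ← h2, ← map_mul, mul_inv_cancel₀ hs0, map_one, map_one]
        have h4 : v * ι r = 1 := algebraMap_gen_injective V h3
        exact (IsLocalRing.mem_maximalIdeal _).mp hrm (IsUnit.of_mul_eq_one v (by rw [mul_comm]; exact h4))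
  obtain ⟨r, rfl⟩ := hsR
  refine ⟨r, ?_⟩
  funext q
  obtain ⟨V, h, hq, v, hv⟩ := H q
  obtain ⟨h0, hres⟩ := key V h v hv
  set ι := ρ.codRestrict V.toSubring h with hιdef
  have hv' : v = ι r := by
    apply algebraMap_gen_injective V
    rw [← hres]
    exact Ideal.ResidueField.map_algebraMap _ _ ι h0 r
  have h5 : η.Nmap ι (η.t R r) = η.Nmap ι z := by
    rw [η.Nmap_t_apply, ← hv']
    exact hv
  have h6 := congrFun h5 (IsLocalRing.closedPoint V)
  rw [Nmap_apply_of_eq η ι z (IsLocalRing.closedPoint V) q hq.symm,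
    Nmap_apply_of_eq η ι (η.t R r) (IsLocalRing.closedPoint V) q hq.symm] at h6
  exact map_injective η _ h6

end Detect

open TensorProduct in
/-- a common field extension of two extensions of `k` -/
lemma exists_compositum {k E K : Type u} [Field k] [Field E] [Field K] (i : k →+* E) (j : k →+* K) :
    ∃ (Ω : Type u) (_ : Field Ω) (a : E →+* Ω) (b : K →+* Ω), a.comp i = b.comp j := by
  let _ := i.toAlgebra
  let _ := j.toAlgebra
  have hinj : Function.Injective (Algebra.TensorProduct.includeLeft : E →ₐ[k] E ⊗[k] K) :=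
    Algebra.TensorProduct.includeLeft_injective (algebraMap k K).injective
  have : Nontrivial (E ⊗[k] K) := hinj.nontrivial
  obtain ⟨m, hm⟩ := Ideal.exists_maximal (E ⊗[k] K)
  let _ := Ideal.Quotient.field m
  refine ⟨(E ⊗[k] K) ⧸ m, inferInstance,
    (Ideal.Quotient.mk m).comp (Algebra.TensorProduct.includeLeft : E →ₐ[k] E ⊗[k] K).toRingHom,
    (Ideal.Quotient.mk m).comp (Algebra.TensorProduct.includeRight : K →ₐ[k] E ⊗[k] K).toRingHom, ?_⟩
  ext c
  simp only [RingHom.comp_apply]
  congr 1
  have h1 : (Algebra.TensorProduct.includeLeft : E →ₐ[k] E ⊗[k] K) (algebraMap k E c) =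
      algebraMap k _ c := AlgHom.commutes _ c
  have h2 : (Algebra.TensorProduct.includeRight : K →ₐ[k] E ⊗[k] K) (algebraMap k K c) =
      algebraMap k _ c := AlgHom.commutes _ c
  exact h1.trans h2.symm


section Descend

variable {A B : Type u} [CommRing A] [CommRing B] (f : A →+* B)

/-- S13816, the hard direction -/
theorem mem_M_of_Nmap_mem_M (hf : f.IsIntegral) (hs : Function.Surjective (PrimeSpectrum.comap f))
    (x : η.N A) (hy : η.Nmap f x ∈ η.M B) : x ∈ η.M A := by
  intro R _ _ _ hR g
  obtain ⟨Q, hQ⟩ := hs (PrimeSpectrum.comap g (gen R))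
  have hQ' : (PrimeSpectrum.comap g (gen R)).asIdeal = Q.asIdeal.comap f := by
    rw [← hQ]; rfl
  set P := PrimeSpectrum.comap g (gen R) with hP
  let rg : P.asIdeal.ResidueField →+* (gen R).asIdeal.ResidueField :=
    Ideal.ResidueField.map _ _ g rfl
  let rf : P.asIdeal.ResidueField →+* Q.asIdeal.ResidueField :=
    Ideal.ResidueField.map _ _ f hQ'
  obtain ⟨Ω, _, a, b, hab⟩ := exists_compositum rf rg
  let β : B →+* η.obj Ω := (η.eta Ω).comp (a.comp (algebraMap B _))
  let ρ : R →+* η.obj Ω := (η.eta Ω).comp (b.comp (algebraMap R _))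
  have hβρ : ∀ c, β (f c) = ρ (g c) := by
    intro c
    show η.eta Ω (a (algebraMap B _ (f c))) = η.eta Ω (b (algebraMap R _ (g c)))
    congr 1
    have h1 : rf (algebraMap A _ c) = algebraMap B _ (f c) :=
      Ideal.ResidueField.map_algebraMap _ _ f hQ' c
    have h2 : rg (algebraMap A _ c) = algebraMap R _ (g c) :=
      Ideal.ResidueField.map_algebraMap _ _ g rfl c
    rw [← h1, ← h2]
    exact congrArg (fun φ => φ (algebraMap A _ c)) (congrArg DFunLike.coe hab)
  have hρ : Function.Injective ρ :=
    (η.eta Ω).injective.comp (b.injective.comp (algebraMap_gen_injective R))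
  obtain ⟨r, hr⟩ := mem_range_t_of_forall η hR ρ hρ (η.Nmap g x) (by
    intro q
    obtain ⟨V, h, hc⟩ := exists_valuationSubring_center ρ q.asIdeal (by
      rw [(RingHom.injective_iff_ker_eq_bot ρ).mp hρ]; exact bot_le)
    refine ⟨V, h, hc, ?_⟩
    -- β lands in V
    have hβV : ∀ b', β b' ∈ V.toSubring := by
      intro b'
      obtain ⟨p, hp, hp0⟩ := hf b'
      have hint : IsIntegral V (β b') := by
        refine ⟨p.map ((ρ.codRestrict V.toSubring h).comp g), hp.map _, ?_⟩
        rw [Polynomial.eval₂_map]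
        have : (algebraMap V (η.obj Ω)).comp ((ρ.codRestrict V.toSubring h).comp g) = β.comp f := by
          ext c
          exact (hβρ c).symm
        rw [this, ← Polynomial.hom_eval₂, hp0, map_zero]
      obtain ⟨v, hv⟩ := IsIntegrallyClosed.algebraMap_eq_of_integral hint
      rw [← hv]
      exact v.2
    have hcomm : (β.codRestrict V.toSubring hβV).comp f = (ρ.codRestrict V.toSubring h).comp g := by
      ext c
      exact hβρ c
    obtain ⟨v, hv⟩ := hy V (inV_valuationSubring η V) (β.codRestrict V.toSubring hβV)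
    refine ⟨v, ?_⟩
    rw [hv, ← Nmap_comp_apply, ← Nmap_comp_apply, hcomm])
  exact ⟨r, hr⟩

theorem mem_M_iff_Nmap_mem_M (hf : f.IsIntegral) (hs : Function.Surjective (PrimeSpectrum.comap f))
    (x : η.N A) : x ∈ η.M A ↔ η.Nmap f x ∈ η.M B :=
  ⟨fun hx => Nmap_mem_M η f hx, mem_M_of_Nmap_mem_M η f hf hs x⟩

end Descend

end Groth.Agent.H8.EtaLib
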