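import Mathlib
import Groth.Prelude.Def_W4c1chowmix47Eta
import Groth.Agent.Lib.Helper8.EtaPt.Descend

set_option autoImplicit false
open EtaPt
universe u
namespace Groth.Agent.H8.EtaLib
variable (η : FieldEndo.{u})

section SpecM

variable {A : Type u} [CommRing A]

/-- evaluation of `M A` at a prime -/
noncomputable def ev (p : PrimeSpectrum A) : η.M A →+* η.obj p.asIdeal.ResidueField :=
  (Pi.evalRingHom _ p).comp (η.M A).subtype

lemma ev_apply (p : PrimeSpectrum A) (x : η.M A) : ev η p x = (x : η.N A) p := rfl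

lemma ev_q (p : PrimeSpectrum A) (a : A) : ev η p (η.q A a) = phi η p a := rfl

/-- the prime `Q_p = ker ev_p` of `M A` -/
noncomputable def Qp (p : PrimeSpectrum A) : PrimeSpectrum (η.M A) :=
  ⟨RingHom.ker (ev η p), RingHom.ker_isPrime _⟩

lemma mem_Qp (p : PrimeSpectrum A) (x : η.M A) : x ∈ (Qp η p).asIdeal ↔ (x : η.N A) p = 0 :=
  Iff.rfl

lemma comap_q_Qp (p : PrimeSpectrum A) : PrimeSpectrum.comap (η.q A) (Qp η p) = p := by
  apply PrimeSpectrum.ext
  ext a
  show η.q A a ∈ (Qp η p).asIdeal ↔ _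
  rw [mem_Qp]
  show phi η p a = 0 ↔ _
  rw [← RingHom.mem_ker, ker_phi]

theorem exists_Qp_le (hA : (minimalPrimes A).Finite) (Q : PrimeSpectrum (η.M A)) :
    ∃ p : PrimeSpectrum A, (Qp η p).asIdeal ≤ Q.asIdeal := by
  classical
  let F : Ideal A → Ideal (η.M A) := fun I =>
    if h : I.IsPrime then (Qp η ⟨I, h⟩).asIdeal else ⊤
  have hle : hA.toFinset.inf F ≤ Q.asIdeal := by
    intro x hx
    have hx0 : x = 0 := by
      apply Subtype.ext
      funext p
      obtain ⟨I, hI, hIp⟩ := Ideal.exists_minimalPrimes_le (show (⊥ : Ideal A) ≤ p.asIdeal from bot_le)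
      have hIprime : I.IsPrime := hI.1.1
      have hxI : x ∈ F I := (Submodule.mem_finsetInf.mp hx) I (hA.mem_toFinset.mpr hI)
      simp only [F, dif_pos hIprime] at hxI
      exact eq_zero_of_le η ⟨I, hIprime⟩ x.2 ((mem_Qp η _ x).mp hxI) p hIp
    rw [hx0]
    exact zero_mem _
  obtain ⟨I, hI, hIQ⟩ := (Ideal.IsPrime.inf_le' Q.2).mp hle
  have hIprime : I.IsPrime := (hA.mem_toFinset.mp hI).1.1
  refine ⟨⟨I, hIprime⟩, ?_⟩
  simpa only [F, dif_pos hIprime] using hIQ

/-- Every prime of `M A` is of the form `Q_p`. -/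
theorem eq_Qp_comap (hA : (minimalPrimes A).Finite) (Q : PrimeSpectrum (η.M A)) :
    Q = Qp η (PrimeSpectrum.comap (η.q A) Q) := by
  obtain ⟨p₀, hp₀⟩ := exists_Qp_le η hA Q
  obtain ⟨W, hW, hc⟩ := exists_valuationSubring_center (ev η p₀) Q.asIdeal hp₀
  have h : ∀ a, phi η p₀ a ∈ W.toSubring := fun a => hW (η.q A a)
  set g := (phi η p₀).codRestrict W.toSubring h with hg
  set p := PrimeSpectrum.comap (η.q A) Q with hp
  let c : PrimeSpectrum W := IsLocalRing.closedPoint W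
  have hcp : p.asIdeal = c.asIdeal.comap g := by
    ext a
    show η.q A a ∈ Q.asIdeal ↔ g a ∈ IsLocalRing.maximalIdeal W
    rw [← hc]
    rfl
  apply PrimeSpectrum.ext
  ext x
  rw [mem_Qp]
  obtain ⟨hxW, hN⟩ := exists_mem_and_Nmap_eq η p₀ W h x.2
  have h1 : η.Nmap g x c = η.t W ⟨(x : η.N A) p₀, hxW⟩ c := congrFun hN c
  rw [Nmap_apply_of_eq η g x c p hcp, t_apply] at h1
  have h2 : x ∈ Q.asIdeal ↔ (⟨(x : η.N A) p₀, hxW⟩ : W) ∈ IsLocalRing.maximalIdeal W := by
    rw [← hc]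
    rfl
  rw [h2]
  constructor
  · intro hx
    have h3 : algebraMap W c.asIdeal.ResidueField ⟨(x : η.N A) p₀, hxW⟩ = 0 :=
      Ideal.algebraMap_residueField_eq_zero.mpr hx
    rw [h3, map_zero] at h1
    exact (map_eq_zero _).mp h1
  · intro hx
    rw [hx, map_zero] at h1
    have h3 := (map_eq_zero _).mp h1.symm
    exact Ideal.algebraMap_residueField_eq_zero.mp h3

theorem comap_q_bijective (hA : (minimalPrimes A).Finite) :
    Function.Bijective (PrimeSpectrum.comap (η.q A)) := by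
  constructor
  · intro Q₁ Q₂ h12
    rw [eq_Qp_comap η hA Q₁, eq_Qp_comap η hA Q₂, h12]
  · intro p
    exact ⟨Qp η p, comap_q_Qp η p⟩

/-- the map `κ(Q_p) → F κ(p)` induced by evaluation -/
theorem exists_phi_Qp (p : PrimeSpectrum A) :
    ∃ φ : (Qp η p).asIdeal.ResidueField →+* η.obj p.asIdeal.ResidueField,
      φ.comp (algebraMap (η.M A) _) = ev η p := by
  have h2 : (Qp η p).asIdeal.primeCompl ≤ (IsUnit.submonoid _).comap (ev η p) := by
    intro x hx
    show IsUnit (ev η p x)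
    rw [isUnit_iff_ne_zero]
    exact hx
  refine ⟨Ideal.ResidueField.lift (Qp η p).asIdeal (ev η p) le_rfl h2, ?_⟩
  ext x
  exact Ideal.ResidueField.lift_algebraMap _ _ _ h2 x

/-- S13803 -/
theorem spec_M (hA : (minimalPrimes A).Finite) :
    Function.Bijective (PrimeSpectrum.comap (η.q A)) ∧
      ∀ Q : PrimeSpectrum (η.M A),
        ∃ φ : Q.asIdeal.ResidueField →+* η.obj (PrimeSpectrum.comap (η.q A) Q).asIdeal.ResidueField,
          φ.comp (Ideal.ResidueField.map (PrimeSpectrum.comap (η.q A) Q).asIdeal Q.asIdeal (η.q A) rfl) =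
            η.eta (PrimeSpectrum.comap (η.q A) Q).asIdeal.ResidueField := by
  refine ⟨comap_q_bijective η hA, ?_⟩
  intro Q
  have hQ := eq_Qp_comap η hA Q
  set p := PrimeSpectrum.comap (η.q A) Q with hp
  have key : ∀ (Q' : PrimeSpectrum (η.M A)) (hQ' : Q' = Qp η p)
      (h : p.asIdeal = Q'.asIdeal.comap (η.q A)),
      ∃ φ : Q'.asIdeal.ResidueField →+* η.obj p.asIdeal.ResidueField,
        φ.comp (Ideal.ResidueField.map p.asIdeal Q'.asIdeal (η.q A) h) =
          η.eta p.asIdeal.ResidueField := by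
    rintro Q' rfl h
    obtain ⟨φ, hφ⟩ := exists_phi_Qp η p
    refine ⟨φ, ?_⟩
    apply Ideal.ResidueField.ringHom_ext
    ext a
    simp only [RingHom.comp_apply]
    rw [Ideal.ResidueField.map_algebraMap, ← RingHom.comp_apply φ, hφ]
    rfl
  exact key Q hQ rfl

end SpecM

end Groth.Agent.H8.EtaLib
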