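import Mathlib
import Groth.Prelude.Def_W4c1chowmix47Eta
import Groth.Agent.Lib.Helper8.EtaPt.SpecM

set_option autoImplicit false
open EtaPt
universe u
namespace Groth.Agent.H8.EtaLib
variable (η : FieldEndo.{u})

section Reduced

lemma t_injective_of_isReduced (B : Type u) [CommRing B] [IsReduced B] :
    Function.Injective (η.t B) := by
  rw [injective_iff_map_eq_zero]
  intro b hb
  have h1 : b ∈ nilradical B := by
    rw [nilradical_eq_sInf, Ideal.mem_sInf]
    intro I hI
    obtain ⟨q, rfl⟩ : ∃ q : PrimeSpectrum B, q.asIdeal = I := ⟨⟨I, hI⟩, rfl⟩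
    have h2 := congrFun hb q
    rw [t_apply] at h2
    have h3 : algebraMap B q.asIdeal.ResidueField b = 0 :=
      (map_eq_zero _).mp h2
    exact Ideal.algebraMap_residueField_eq_zero.mp h3
  rw [nilradical_eq_zero B] at h1
  exact h1

end Reduced

section MM

variable {A : Type u} [CommRing A]

lemma Nmap_q_Qp (x : η.N A) (p : PrimeSpectrum A) :
    η.Nmap (η.q A) x (Qp η p) =
      η.map (Ideal.ResidueField.map p.asIdeal (Qp η p).asIdeal (η.q A)
        (congrArg PrimeSpectrum.asIdeal (comap_q_Qp η p).symm)) (x p) :=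
  Nmap_apply_of_eq η (η.q A) x (Qp η p) p _

/-- `F` of the residue field map at `Q_p` is bijective. -/
lemma map_res_Qp_bijective (p : PrimeSpectrum A) :
    Function.Bijective (η.map (Ideal.ResidueField.map p.asIdeal (Qp η p).asIdeal (η.q A)
        (congrArg PrimeSpectrum.asIdeal (comap_q_Qp η p).symm))) := by
  set res := Ideal.ResidueField.map p.asIdeal (Qp η p).asIdeal (η.q A)
        (congrArg PrimeSpectrum.asIdeal (comap_q_Qp η p).symm) with hres
  obtain ⟨φ, hφ⟩ := exists_phi_Qp η p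
  have hcomp : φ.comp res = η.eta p.asIdeal.ResidueField := by
    apply Ideal.ResidueField.ringHom_ext
    ext a
    simp only [RingHom.comp_apply]
    rw [hres, Ideal.ResidueField.map_algebraMap, ← RingHom.comp_apply φ, hφ]
    rfl
  refine ⟨map_injective η res, fun z => ?_⟩
  obtain ⟨w, hw⟩ := (η.bijective_map_eta p.asIdeal.ResidueField).2 (η.map φ z)
  refine ⟨w, map_injective η φ ?_⟩
  rw [← RingHom.comp_apply, ← η.map_comp, hcomp]
  exact hw

/-- S13815 (1) -/
theorem Nmap_q_eq_t (hA : (minimalPrimes A).Finite) (x : η.M A) :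
    η.Nmap (η.q A) (x : η.N A) = η.t (η.M A) x := by
  funext Q
  obtain ⟨p, rfl⟩ : ∃ p, Q = Qp η p := ⟨_, eq_Qp_comap η hA Q⟩
  rw [Nmap_q_Qp, t_apply]
  set res := Ideal.ResidueField.map p.asIdeal (Qp η p).asIdeal (η.q A)
        (congrArg PrimeSpectrum.asIdeal (comap_q_Qp η p).symm) with hres
  obtain ⟨φ, hφ⟩ := exists_phi_Qp η p
  have hcomp : φ.comp res = η.eta p.asIdeal.ResidueField := by
    apply Ideal.ResidueField.ringHom_ext
    ext a
    simp only [RingHom.comp_apply]
    rw [hres, Ideal.ResidueField.map_algebraMap, ← RingHom.comp_apply φ, hφ]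
    rfl
  apply map_injective η φ
  rw [← RingHom.comp_apply, ← η.map_comp, hcomp, eta_natural_apply, ← RingHom.comp_apply φ, hφ,
    ← eta_obj]
  rfl

/-- S13804 -/
theorem Nmap_q_bijective (hA : (minimalPrimes A).Finite) :
    Function.Bijective (η.Nmap (η.q A)) := by
  constructor
  · intro x y hxy
    funext p
    have h1 := congrFun hxy (Qp η p)
    rw [Nmap_q_Qp, Nmap_q_Qp] at h1
    exact map_injective η _ h1
  · intro y
    refine ⟨fun p => (RingEquiv.ofBijective _ (map_res_Qp_bijective η p)).symm (y (Qp η p)), ?_⟩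
    funext Q
    obtain ⟨p, rfl⟩ : ∃ p, Q = Qp η p := ⟨_, eq_Qp_comap η hA Q⟩
    rw [Nmap_q_Qp]
    exact (RingEquiv.ofBijective _ (map_res_Qp_bijective η p)).apply_symm_apply _

lemma t_M_injective (hA : (minimalPrimes A).Finite) : Function.Injective (η.t (η.M A)) := by
  intro x y hxy
  rw [← Nmap_q_eq_t η hA, ← Nmap_q_eq_t η hA] at hxy
  exact Subtype.ext ((Nmap_q_bijective η hA).1 hxy)

/-- S13815 (2) -/
theorem q_M_bijective (hA : (minimalPrimes A).Finite) : Function.Bijective (η.q (η.M A)) := by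
  constructor
  · intro x y hxy
    exact t_M_injective η hA (congrArg Subtype.val hxy)
  · intro w
    obtain ⟨x, hx⟩ := (Nmap_q_bijective η hA).2 (w : η.N (η.M A))
    have hxM : x ∈ η.M A := by
      rw [mem_M_iff_Nmap_mem_M η (η.q A) (q_isIntegral η hA) (comap_q_bijective η hA).2, hx]
      exact w.2
    refine ⟨⟨x, hxM⟩, Subtype.ext ?_⟩
    show η.t (η.M A) ⟨x, hxM⟩ = w
    rw [← Nmap_q_eq_t η hA, hx]

/-- S13805 -/
theorem bijective_of_Nmap_bijective (hA : (minimalPrimes A).Finite) (B : Type u) [CommRing B]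
    [IsReduced B] (f : η.M A →+* B) (hf : f.IsIntegral) (hN : Function.Bijective (η.Nmap f)) :
    Function.Bijective f := by
  constructor
  · intro a b hab
    apply t_M_injective η hA
    apply hN.1
    rw [η.Nmap_t_apply, η.Nmap_t_apply, hab]
  · intro b
    obtain ⟨w, hw, hwb⟩ := (bijOn_M η f hf hN).surjOn (η.t_mem_M B b)
    obtain ⟨a, ha⟩ := (q_M_bijective η hA).2 ⟨w, hw⟩
    refine ⟨a, t_injective_of_isReduced η B ?_⟩
    rw [← η.Nmap_t_apply, ← hwb]
    congr 1
    exact congrArg Subtype.val ha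

/-- S13806 -/
theorem existsUnique_factor (hA : (minimalPrimes A).Finite) (B : Type u) [CommRing B]
    (g : A →+* B) (hg : g.IsIntegral) (hN : Function.Bijective (η.Nmap g)) :
    ∃! g' : B →+* η.M A, g'.comp g = η.q A := by
  have hbij := bijOn_M η g hg hN
  let r : η.M A →+* η.M B := (η.Nmap g).restrict (η.M A) (η.M B) hbij.mapsTo
  have hr : Function.Bijective r := by
    constructor
    · intro x y hxy
      exact Subtype.ext (hN.1 (congrArg Subtype.val hxy))
    · intro y
      obtain ⟨x, hx, hxy⟩ := hbij.surjOn y.2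
      exact ⟨⟨x, hx⟩, Subtype.ext hxy⟩
  let e := RingEquiv.ofBijective r hr
  have hcomp : ((e.symm : η.M B →+* η.M A).comp (η.q B)).comp g = η.q A := by
    refine RingHom.ext fun a => ?_
    show e.symm (η.q B (g a)) = η.q A a
    rw [RingEquiv.symm_apply_eq]
    apply Subtype.ext
    show η.t B (g a) = η.Nmap g (η.t A a)
    rw [η.Nmap_t_apply]
  refine ⟨(e.symm : η.M B →+* η.M A).comp (η.q B), hcomp, ?_⟩
  intro g'' hg''
  have hNN : ∀ g₁ : B →+* η.M A, g₁.comp g = η.q A →
      ∀ y, η.Nmap g₁ y = η.Nmap (η.q A) ((RingEquiv.ofBijective _ hN).symm y) := by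
    intro g₁ hg₁ y
    obtain ⟨x, rfl⟩ := hN.2 y
    rw [← hg₁, Nmap_comp_apply]
    exact congrArg (fun z => η.Nmap g₁ (η.Nmap g z))
      ((RingEquiv.ofBijective _ hN).symm_apply_apply x).symm
  refine RingHom.ext fun b => ?_
  apply t_M_injective η hA
  rw [← η.Nmap_t_apply, ← η.Nmap_t_apply, hNN g'' hg'', hNN _ hcomp]

end MM

end Groth.Agent.H8.EtaLib
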