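import Mathlib
import Groth.Prelude.Def_W4c1chowmix47Eta
import Groth.Agent.Lib.Helper8.EtaPt.MM

set_option autoImplicit false
open EtaPt
universe u
namespace Groth.Agent.H8.EtaLib
variable (η : FieldEndo.{u})

section Char

lemma ringChar_eq_of_ringHom {R : Type*} [CommRing R] [IsDomain R] {k : Type*} [Field k]
    (f : R →+* k) (h : ringChar R ≠ 0) : ringChar k = ringChar R := by
  have hp : (ringChar R).Prime := (CharP.char_is_prime_or_zero R (ringChar R)).resolve_right h
  have h0 : ((ringChar R : ℕ) : k) = 0 := by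
    rw [← map_natCast f, CharP.cast_eq_zero, map_zero]
  have hdvd : ringChar k ∣ ringChar R := ringChar.dvd h0
  rcases (Nat.dvd_prime hp).mp hdvd with h1 | h1
  · exact absurd h1 (CharP.ringChar_ne_one)
  · exact h1

lemma ringExpChar_eq_of_ringHom {R : Type*} [CommRing R] [IsDomain R] {k k' : Type*} [Field k]
    [Field k'] (f : R →+* k) (f' : R →+* k') (h : ringChar R ≠ 0) :
    ringExpChar k = ringExpChar k' := by
  unfold ringExpChar
  rw [ringChar_eq_of_ringHom f h, ringChar_eq_of_ringHom f' h]

lemma exists_pow_eq_of_perfectField (k : Type*) [Field k] [PerfectField k] (u : k) (n : ℕ) :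
    ∃ v : k, v ^ ringExpChar k ^ n = u := by
  have : PerfectRing k (ringExpChar k) := PerfectField.toPerfectRing _
  refine ⟨(iterateFrobeniusEquiv k (ringExpChar k) n).symm u, ?_⟩
  rw [← iterateFrobeniusEquiv_def]
  exact RingEquiv.apply_symm_apply _ u

end Char

section ValRing

variable (R : Type u) [CommRing R] [IsDomain R]

lemma exists_pow_eq_phi_of_isIntegralElem [IsIntegrallyClosed R]
    {y : η.obj (gen R).asIdeal.ResidueField}
    (hy : (phi η (gen R)).IsIntegralElem y) :
    ∃ (n : ℕ) (r : R), y ^ ringExpChar (gen R).asIdeal.ResidueField ^ n = phi η (gen R) r := by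
  obtain ⟨n, a, ha⟩ := η.exists_pow_mem_range_eta _ y
  let _ : Algebra R (η.obj (gen R).asIdeal.ResidueField) := (phi η (gen R)).toAlgebra
  have h1 : IsIntegral R y := hy
  have h2 : IsIntegral R (y ^ ringExpChar (gen R).asIdeal.ResidueField ^ n) := h1.pow _
  rw [← ha] at h2
  let ψ : (gen R).asIdeal.ResidueField →ₐ[R] η.obj (gen R).asIdeal.ResidueField :=
    { η.eta (gen R).asIdeal.ResidueField with commutes' := fun r => rfl }
  have h3 : IsIntegral R a :=
    (isIntegral_algHom_iff ψ (η.eta (gen R).asIdeal.ResidueField).injective).mp h2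
  obtain ⟨r, rfl⟩ := IsIntegrallyClosed.algebraMap_eq_of_integral h3
  exact ⟨n, r, ha.symm⟩

lemma inV_of_ringChar_eq_zero (h : ringChar R = 0) : η.InV R := by
  rw [inV_iff_gen]
  refine ⟨eta_injective η _, fun y => ?_⟩
  have : CharP R 0 := h ▸ ringChar.charP R
  have : CharZero R := CharP.charP_to_charZero R
  have : CharZero (gen R).asIdeal.ResidueField :=
    charZero_of_injective_ringHom (algebraMap_gen_injective R)
  obtain ⟨n, a, ha⟩ := η.exists_pow_mem_range_eta _ y
  refine ⟨a, ?_⟩
  rw [ha, ringExpChar.eq_one, one_pow, pow_one]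

variable [ValuationRing R]

/-- the perfect case of the surjectivity in S13813 -/
lemma exists_mem_M_gen_eq_of_perfect (hchar : ringChar R ≠ 0)
    (hperf : ∀ (k : Type u) [Field k], ringChar k = ringChar R →
      Function.Bijective (η.eta k) → PerfectField k)
    {y : η.obj (gen R).asIdeal.ResidueField} (hy : (phi η (gen R)).IsIntegralElem y) :
    ∃ x ∈ η.M R, x (gen R) = y := by
  obtain ⟨n, r, hr⟩ := exists_pow_eq_phi_of_isIntegralElem η R hy
  set e := ringExpChar (gen R).asIdeal.ResidueField with he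
  -- exponential characteristics agree
  have hE : ∀ (k : Type u) [Field k] (_ : R →+* k), ringExpChar k = e := fun k _ f =>
    ringExpChar_eq_of_ringHom f (algebraMap R (gen R).asIdeal.ResidueField) hchar
  -- roots in each factor
  have hroot : ∀ q : PrimeSpectrum R, ∃ v : η.obj q.asIdeal.ResidueField,
      v ^ e ^ n = η.t R r q := by
    intro q
    have : PerfectField (η.obj q.asIdeal.ResidueField) :=
      hperf _ (ringChar_eq_of_ringHom (phi η q) hchar) (bijective_eta_obj η _)
    obtain ⟨v, hv⟩ := exists_pow_eq_of_perfectField (η.obj q.asIdeal.ResidueField) (η.t R r q) n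
    rw [hE _ (phi η q)] at hv
    exact ⟨v, hv⟩
  choose x hx using hroot
  have hxpow : x ^ e ^ n = η.t R r := funext fun q => by rw [Pi.pow_apply]; exact hx q
  refine ⟨x, ?_, ?_⟩
  · intro R' _ _ _ hR' g
    have : PerfectField (FractionRing R') :=
      hperf _ (ringChar_eq_of_ringHom ((algebraMap R' (FractionRing R')).comp g) hchar) hR'
    obtain ⟨s₀, hs₀⟩ := exists_pow_eq_of_perfectField (FractionRing R')
      (algebraMap R' (FractionRing R') (g r)) n
    rw [hE _ ((algebraMap R' (FractionRing R')).comp g)] at hs₀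
    have hpos : 0 < e ^ n := by
      apply pow_pos
      exact expChar_pos (gen R).asIdeal.ResidueField e
    have hint : IsIntegral R' s₀ := by
      refine IsIntegral.of_pow hpos ?_
      rw [hs₀]
      exact isIntegral_algebraMap
    obtain ⟨s, rfl⟩ := IsIntegrallyClosed.algebraMap_eq_of_integral hint
    have hs : s ^ e ^ n = g r := by
      apply IsFractionRing.injective R' (FractionRing R')
      rw [map_pow, hs₀]
    refine ⟨s, ?_⟩
    have hpow : (η.t R' s) ^ e ^ n = (η.Nmap g x) ^ e ^ n := by
      rw [← map_pow, hs, ← η.Nmap_t_apply, ← hxpow, map_pow]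
    funext q'
    have h1 := congrFun hpow q'
    rw [Pi.pow_apply, Pi.pow_apply] at h1
    have hq' : ringExpChar q'.asIdeal.ResidueField = e :=
      hE _ ((algebraMap R' q'.asIdeal.ResidueField).comp g)
    apply pow_expChar_inj (η.eta q'.asIdeal.ResidueField) n
    rw [hq']
    exact h1
  · apply pow_expChar_inj (η.eta (gen R).asIdeal.ResidueField) n
    rw [hr]
    exact hx (gen R)

/-- S13813 -/
theorem valuationRing_M (hη : η.InV R ∨ ∀ (k : Type u) [Field k], ringChar k = ringChar R →
      Function.Bijective (η.eta k) → PerfectField k) :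
    Set.InjOn (fun x : η.N R => x ⟨⊥, Ideal.isPrime_bot⟩) (η.M R) ∧
      (fun x : η.N R => x ⟨⊥, Ideal.isPrime_bot⟩) '' (η.M R : Set (η.N R)) =
        {y | ((η.eta (⊥ : Ideal R).ResidueField).comp
          (algebraMap R (⊥ : Ideal R).ResidueField)).IsIntegralElem y} := by
  refine ⟨injOn_gen η R, ?_⟩
  apply Set.Subset.antisymm
  · rintro _ ⟨x, hx, rfl⟩
    exact isIntegralElem_phi η (gen R) hx
  · intro y hy
    have hy' : (phi η (gen R)).IsIntegralElem y := hy
    have hInV : η.InV R → ∃ x ∈ η.M R, x (gen R) = y := by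
      intro hR
      obtain ⟨s, hs⟩ := ((inV_iff_gen η R).mp hR).2 y
      obtain ⟨P, hP, hP0⟩ := hy'
      have hint : IsIntegral R s := by
        refine ⟨P, hP, ?_⟩
        apply eta_injective η
        rw [Polynomial.hom_eval₂, map_zero, hs]
        exact hP0
      obtain ⟨a, rfl⟩ := IsIntegrallyClosed.algebraMap_eq_of_integral hint
      exact ⟨η.t R a, η.t_mem_M R a, hs⟩
    rcases hη with hR | hperf
    · exact hInV hR
    · by_cases hchar : ringChar R = 0
      · exact hInV (inV_of_ringChar_eq_zero η R hchar)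
      · exact exists_mem_M_gen_eq_of_perfect η R hchar hperf hy'

/-- every element of `F K₀` or its inverse is integral over the valuation ring `R` -/
lemma isIntegralElem_or_inv (y : η.obj (gen R).asIdeal.ResidueField) :
    (phi η (gen R)).IsIntegralElem y ∨ (phi η (gen R)).IsIntegralElem y⁻¹ := by
  obtain ⟨n, a, ha⟩ := η.exists_pow_mem_range_eta _ y
  let _ : Algebra R (η.obj (gen R).asIdeal.ResidueField) := (phi η (gen R)).toAlgebra
  have hpos : 0 < ringExpChar (gen R).asIdeal.ResidueField ^ n := by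
    apply pow_pos
    exact expChar_pos (gen R).asIdeal.ResidueField _
  rcases ValuationRing.isInteger_or_isInteger R a with ⟨r, hr⟩ | ⟨r, hr⟩
  · left
    show IsIntegral R y
    refine IsIntegral.of_pow hpos ?_
    rw [← ha, ← hr]
    exact isIntegral_algebraMap (R := R) (x := r)
  · right
    show IsIntegral R y⁻¹
    refine IsIntegral.of_pow hpos ?_
    rw [inv_pow, ← ha, ← map_inv₀, ← hr]
    exact isIntegral_algebraMap (R := R) (x := r)

/-- S13814 -/
theorem valuationRing_M_structure (hη : η.InV R ∨ ∀ (k : Type u) [Field k],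
      ringChar k = ringChar R → Function.Bijective (η.eta k) → PerfectField k) :
    IsDomain (η.M R) ∧ PreValuationRing (η.M R) ∧
      (∀ y : η.obj (⊥ : Ideal R).ResidueField, ∃ a b : η.M R,
        (b : η.N R) ⟨⊥, Ideal.isPrime_bot⟩ ≠ 0 ∧
          y * (b : η.N R) ⟨⊥, Ideal.isPrime_bot⟩ = (a : η.N R) ⟨⊥, Ideal.isPrime_bot⟩) ∧
      (fun x : η.N R => x ⟨⊥, Ideal.isPrime_bot⟩) '' (η.M R : Set (η.N R)) ∩
          Set.range (η.eta (⊥ : Ideal R).ResidueField) =
        Set.range ((η.eta (⊥ : Ideal R).ResidueField).comp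
          (algebraMap R (⊥ : Ideal R).ResidueField)) := by
  obtain ⟨hinj, himg⟩ := valuationRing_M η R hη
  have hevinj : Function.Injective (ev η (gen R)) := fun a b hab =>
    Subtype.ext (hinj a.2 b.2 hab)
  have hlift : ∀ y : η.obj (gen R).asIdeal.ResidueField, (phi η (gen R)).IsIntegralElem y →
      ∃ c : η.M R, ev η (gen R) c = y := by
    intro y hy
    have : y ∈ (fun x : η.N R => x ⟨⊥, Ideal.isPrime_bot⟩) '' (η.M R : Set (η.N R)) := by
      rw [himg]; exact hy
    obtain ⟨x, hx, hxy⟩ := this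
    exact ⟨⟨x, hx⟩, hxy⟩
  refine ⟨hevinj.isDomain (ev η (gen R)), ⟨?_⟩, ?_, ?_⟩
  · intro a b
    by_cases hb0 : ev η (gen R) b = 0
    · have : b = 0 := hevinj (by rw [hb0, map_zero])
      exact ⟨0, Or.inl (by rw [this, mul_zero])⟩
    by_cases ha0 : ev η (gen R) a = 0
    · have : a = 0 := hevinj (by rw [ha0, map_zero])
      exact ⟨0, Or.inr (by rw [this, mul_zero])⟩
    rcases isIntegralElem_or_inv η R (ev η (gen R) a / ev η (gen R) b) with h | h
    · obtain ⟨c, hc⟩ := hlift _ h
      refine ⟨c, Or.inr (hevinj ?_)⟩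
      rw [map_mul, hc]
      field_simp
    · obtain ⟨c, hc⟩ := hlift _ h
      refine ⟨c, Or.inl (hevinj ?_)⟩
      rw [map_mul, hc]
      field_simp
  · intro y
    by_cases hy0 : y = 0
    · refine ⟨0, 1, ?_, ?_⟩
      · show ev η (gen R) 1 ≠ 0
        rw [map_one]; exact one_ne_zero
      · rw [hy0, zero_mul]; rfl
    rcases isIntegralElem_or_inv η R y with h | h
    · obtain ⟨c, hc⟩ := hlift _ h
      refine ⟨c, 1, ?_, ?_⟩
      · show ev η (gen R) 1 ≠ 0
        rw [map_one]; exact one_ne_zero
      · show y * ev η (gen R) 1 = ev η (gen R) c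
        rw [map_one, mul_one, hc]
    · obtain ⟨c, hc⟩ := hlift _ h
      refine ⟨1, c, ?_, ?_⟩
      · show ev η (gen R) c ≠ 0
        rw [hc]; exact inv_ne_zero hy0
      · show y * ev η (gen R) c = ev η (gen R) 1
        rw [hc, map_one, mul_inv_cancel₀ hy0]
  · rw [himg]
    apply Set.Subset.antisymm
    · rintro _ ⟨⟨P, hP, hP0⟩, s, rfl⟩
      have hint : IsIntegral R s := by
        refine ⟨P, hP, ?_⟩
        apply eta_injective η
        rw [Polynomial.hom_eval₂, map_zero]
        exact hP0
      obtain ⟨a, rfl⟩ := IsIntegrallyClosed.algebraMap_eq_of_integral hint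
      exact ⟨a, rfl⟩
    · rintro _ ⟨r, rfl⟩
      exact ⟨RingHom.isIntegralElem_map _, _, rfl⟩

end ValRing

end Groth.Agent.H8.EtaLib
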