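import Mathlib
import Groth.Prelude.Def_W4c1chowmix47Eta
import Groth.Agent.Lib.Helper8.EtaPt.ValRing

set_option autoImplicit false
open EtaPt
universe u
namespace Groth.Agent.H8.EtaLib
variable (η : FieldEndo.{u})

section NB

variable {A B : Type u} [CommRing A] [CommRing B] (f : A →+* B)

/-- the residue field map of `f` at `q` -/
noncomputable abbrev resMap (q : PrimeSpectrum B) :
    (PrimeSpectrum.comap f q).asIdeal.ResidueField →+* q.asIdeal.ResidueField :=
  Ideal.ResidueField.map (PrimeSpectrum.comap f q).asIdeal q.asIdeal f rfl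

lemma Nmap_injective_of_comap_surjective (hs : Function.Surjective (PrimeSpectrum.comap f)) :
    Function.Injective (η.Nmap f) := by
  intro x y hxy
  funext p
  obtain ⟨q, rfl⟩ := hs p
  have h1 := congrFun hxy q
  rw [Nmap_apply, Nmap_apply] at h1
  exact map_injective η _ h1

lemma Nmap_surjective_of (hi : Function.Injective (PrimeSpectrum.comap f))
    (hb : ∀ q : PrimeSpectrum B, Function.Surjective (η.map (resMap f q))) :
    Function.Surjective (η.Nmap f) := by
  intro y
  have key : ∀ p : PrimeSpectrum A, ∃ z : η.obj p.asIdeal.ResidueField,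
      ∀ (q : PrimeSpectrum B) (h : p.asIdeal = q.asIdeal.comap f),
        η.map (Ideal.ResidueField.map p.asIdeal q.asIdeal f h) z = y q := by
    intro p
    by_cases hp : ∃ q₀, PrimeSpectrum.comap f q₀ = p
    · obtain ⟨q₀, rfl⟩ := hp
      obtain ⟨z, hz⟩ := hb q₀ (y q₀)
      refine ⟨z, fun q h => ?_⟩
      obtain rfl : q₀ = q := hi (PrimeSpectrum.ext h)
      exact hz
    · refine ⟨0, fun q h => ?_⟩
      exact absurd ⟨q, (PrimeSpectrum.ext h).symm⟩ hp
  choose x hx using key
  refine ⟨x, funext fun q => ?_⟩
  rw [Nmap_apply]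
  exact hx _ q rfl

lemma Nmap_bijective_of (hc : Function.Bijective (PrimeSpectrum.comap f))
    (hb : ∀ q : PrimeSpectrum B, Function.Surjective (η.map (resMap f q))) :
    Function.Bijective (η.Nmap f) :=
  ⟨Nmap_injective_of_comap_surjective η f hc.2, Nmap_surjective_of η f hc.1 hb⟩

open Classical in
lemma comap_surjective_of_Nmap_injective (h : Function.Injective (η.Nmap f)) :
    Function.Surjective (PrimeSpectrum.comap f) := by
  intro p
  by_contra hp
  push Not at hp
  have h1 : η.Nmap f (Pi.single p 1) = η.Nmap f 0 := by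
    rw [map_zero]
    funext q
    rw [Nmap_apply, Pi.single_eq_of_ne (hp q), map_zero]
    rfl
  have h2 := congrFun (h h1) p
  rw [Pi.single_eq_same] at h2
  exact one_ne_zero h2

open Classical in
lemma comap_injective_of_Nmap_surjective (h : Function.Surjective (η.Nmap f)) :
    Function.Injective (PrimeSpectrum.comap f) := by
  intro q₁ q₂ h12
  by_contra hne
  obtain ⟨x, hx⟩ := h (Pi.single q₁ 1)
  have h1 := congrFun hx q₁
  have h2 := congrFun hx q₂
  rw [Pi.single_eq_same, Nmap_apply] at h1
  rw [Pi.single_eq_of_ne (Ne.symm hne), Nmap_apply] at h2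
  have h3 : x (PrimeSpectrum.comap f q₂) = 0 := (map_eq_zero _).mp h2
  have h4 : x (PrimeSpectrum.comap f q₁) = 0 := by rw [h12]; exact h3
  rw [h4, map_zero] at h1
  exact zero_ne_one h1

open Classical in
lemma map_resMap_surjective_of_Nmap_surjective (h : Function.Surjective (η.Nmap f))
    (q : PrimeSpectrum B) : Function.Surjective (η.map (resMap f q)) := by
  intro z
  obtain ⟨x, hx⟩ := h (Pi.single q z)
  have h1 := congrFun hx q
  rw [Pi.single_eq_same, Nmap_apply] at h1
  exact ⟨_, h1⟩

lemma map_resMap_bijective_of_surjectiveOnStalks (hf : f.SurjectiveOnStalks)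
    (q : PrimeSpectrum B) : Function.Bijective (η.map (resMap f q)) :=
  map_bijective_of_bijective η _ (hf.residueFieldMap_bijective _ _ rfl)

end NB

section Loc

variable {A : Type u} [CommRing A] (S : Type u) [CommRing S] [Algebra A S]

lemma Nmap_surjective_of_isLocalization (M : Submonoid A) [IsLocalization M S] :
    Function.Surjective (η.Nmap (algebraMap A S)) :=
  Nmap_surjective_of η _ (PrimeSpectrum.localization_comap_injective S M) fun q =>
    (map_resMap_bijective_of_surjectiveOnStalks η _
      (RingHom.surjectiveOnStalks_of_isLocalization M S) q).2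

/-- S13824 in general form -/
theorem away_N (f : A) [IsLocalization.Away f S] :
    (∀ y : η.N S, ∃ (x : η.N A) (n : ℕ),
        y * η.t S (algebraMap A S f) ^ n = η.Nmap (algebraMap A S) x) ∧
      ∀ x : η.N A, η.Nmap (algebraMap A S) x = 0 → ∃ n : ℕ, η.t A f ^ n * x = 0 := by
  constructor
  · intro y
    obtain ⟨x, hx⟩ := Nmap_surjective_of_isLocalization η S (Submonoid.powers f) y
    exact ⟨x, 0, by rw [pow_zero, mul_one, hx]⟩
  · intro x hx
    refine ⟨1, ?_⟩
    rw [pow_one]
    funext p
    show η.t A f p * x p = 0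
    by_cases hfp : f ∈ p.asIdeal
    · rw [t_apply, Ideal.algebraMap_residueField_eq_zero.mpr hfp, map_zero, zero_mul]
    · have hp : p ∈ Set.range (PrimeSpectrum.comap (algebraMap A S)) := by
        rw [PrimeSpectrum.localization_away_comap_range S f]
        exact hfp
      obtain ⟨q, rfl⟩ := hp
      have h1 := congrFun hx q
      rw [Nmap_apply] at h1
      have h2 : x (PrimeSpectrum.comap (algebraMap A S) q) = 0 := (map_eq_zero _).mp h1
      rw [h2, mul_zero]

end Loc

end Groth.Agent.H8.EtaLib
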