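import Mathlib
import Groth.Prelude.Def_W4c1chowmix47Eta
import Groth.Agent.Lib.Helper8.EtaPt.NB

set_option autoImplicit false
open EtaPt
universe u
namespace Groth.Agent.H8.EtaLib
variable (η : FieldEndo.{u})

section Prod

variable (A B : Type u) [CommRing A] [CommRing B]

lemma prime_prod_cases (P : PrimeSpectrum (A × B)) :
    (∃ p, P = PrimeSpectrum.comap (RingHom.fst A B) p) ∨
      (∃ q, P = PrimeSpectrum.comap (RingHom.snd A B) q) := by
  rcases (Ideal.ideal_prod_prime P.asIdeal).mp P.2 with ⟨p, hp, h⟩ | ⟨q, hq, h⟩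
  · left
    refine ⟨⟨p, hp⟩, PrimeSpectrum.ext ?_⟩
    rw [h]
    ext ⟨a, b⟩
    simp [Ideal.mem_prod]
  · right
    refine ⟨⟨q, hq⟩, PrimeSpectrum.ext ?_⟩
    rw [h]
    ext ⟨a, b⟩
    simp [Ideal.mem_prod]

variable {A B} in
lemma Nmap_surjective_of_surjective {f : A →+* B} (hf : Function.Surjective f) :
    Function.Surjective (η.Nmap f) :=
  Nmap_surjective_of η _ (PrimeSpectrum.comap_injective_of_surjective f hf) fun q =>
    (map_resMap_bijective_of_surjectiveOnStalks η _
      (RingHom.surjectiveOnStalks_of_surjective hf) q).2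

/-- a ring map from a product to a domain factors through one of the projections -/
lemma exists_factor_prod {R : Type u} [CommRing R] [IsDomain R] (g : A × B →+* R) :
    (∃ g₁ : A →+* R, g = g₁.comp (RingHom.fst A B)) ∨
      (∃ g₂ : B →+* R, g = g₂.comp (RingHom.snd A B)) := by
  have h0 : g (1, 0) * g (0, 1) = 0 := by
    rw [← map_mul, Prod.mk_mul_mk, mul_zero, zero_mul]
    exact map_zero g
  rcases mul_eq_zero.mp h0 with h | h
  · right
    have hk : RingHom.ker (RingHom.snd A B) ≤ RingHom.ker g := by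
      rintro ⟨a, b⟩ hab
      have hb : b = 0 := hab
      rw [RingHom.mem_ker]
      have : ((a, b) : A × B) = (1, 0) * (a, 0) := by rw [hb]; simp
      rw [this, map_mul, h, zero_mul]
    refine ⟨(RingHom.snd A B).liftOfRightInverse (fun b => (0, b)) (fun b => rfl) ⟨g, hk⟩, ?_⟩
    exact ((RingHom.snd A B).liftOfRightInverse_comp _ _ ⟨g, hk⟩).symm
  · left
    have hk : RingHom.ker (RingHom.fst A B) ≤ RingHom.ker g := by
      rintro ⟨a, b⟩ hab
      have ha : a = 0 := hab
      rw [RingHom.mem_ker]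
      have : ((a, b) : A × B) = (0, 1) * (0, b) := by rw [ha]; simp
      rw [this, map_mul, h, zero_mul]
    refine ⟨(RingHom.fst A B).liftOfRightInverse (fun a => (a, 0)) (fun a => rfl) ⟨g, hk⟩, ?_⟩
    exact ((RingHom.fst A B).liftOfRightInverse_comp _ _ ⟨g, hk⟩).symm

/-- S13810 -/
theorem prod_bijOn :
    Set.BijOn (fun x : η.N (A × B) => (η.Nmap (RingHom.fst A B) x, η.Nmap (RingHom.snd A B) x))
      (η.M (A × B)) ((η.M A : Set (η.N A)) ×ˢ (η.M B : Set (η.N B))) := by
  refine ⟨fun x hx => ⟨Nmap_mem_M η _ hx, Nmap_mem_M η _ hx⟩, ?_, ?_⟩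
  · intro x _ y _ hxy
    have h1 : η.Nmap (RingHom.fst A B) x = η.Nmap (RingHom.fst A B) y := congrArg Prod.fst hxy
    have h2 : η.Nmap (RingHom.snd A B) x = η.Nmap (RingHom.snd A B) y := congrArg Prod.snd hxy
    funext P
    rcases prime_prod_cases A B P with ⟨p, rfl⟩ | ⟨q, rfl⟩
    · have := congrFun h1 p
      rw [Nmap_apply, Nmap_apply] at this
      exact map_injective η _ this
    · have := congrFun h2 q
      rw [Nmap_apply, Nmap_apply] at this
      exact map_injective η _ this
  · rintro ⟨u, v⟩ ⟨hu, hv⟩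
    obtain ⟨x₁, hx₁⟩ := Nmap_surjective_of_surjective η
      (show Function.Surjective (RingHom.fst A B) from Prod.fst_surjective) u
    obtain ⟨x₂, hx₂⟩ := Nmap_surjective_of_surjective η
      (show Function.Surjective (RingHom.snd A B) from Prod.snd_surjective) v
    have hu' : (u : η.N A) ∈ η.M A := hu
    have hv' : (v : η.N B) ∈ η.M B := hv
    set x := η.t (A × B) (1, 0) * x₁ + η.t (A × B) (0, 1) * x₂ with hx
    have hfst : η.Nmap (RingHom.fst A B) x = u := by
      rw [hx, map_add, map_mul, map_mul, η.Nmap_t_apply, η.Nmap_t_apply, hx₁]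
      show η.t A 1 * u + η.t A 0 * _ = u
      rw [map_one, map_zero, one_mul, zero_mul, add_zero]
    have hsnd : η.Nmap (RingHom.snd A B) x = v := by
      rw [hx, map_add, map_mul, map_mul, η.Nmap_t_apply, η.Nmap_t_apply, hx₂]
      show η.t B 0 * _ + η.t B 1 * v = v
      rw [map_one, map_zero, one_mul, zero_mul, zero_add]
    refine ⟨x, ?_, Prod.ext hfst hsnd⟩
    intro R _ _ _ hR g
    rcases exists_factor_prod A B g with ⟨g₁, rfl⟩ | ⟨g₂, rfl⟩
    · rw [Nmap_comp_apply, hfst]
      exact hu' R hR g₁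
    · rw [Nmap_comp_apply, hsnd]
      exact hv' R hR g₂

end Prod

end Groth.Agent.H8.EtaLib
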