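import Mathlib
import Groth.Prelude.Def_W4c1chowmix47Eta
import Groth.Agent.Lib.Helper8.EtaPt.Prod

set_option autoImplicit false
open EtaPt
universe u
namespace Groth.Agent.H8.EtaLib
variable (η : FieldEndo.{u})

section Func

variable {A B : Type u} [CommRing A] [CommRing B]

lemma isNilpotent_of_t_eq_zero {c : B} (hc : η.t B c = 0) : IsNilpotent c := by
  rw [← mem_nilradical, nilradical_eq_sInf, Ideal.mem_sInf]
  intro I hI
  obtain ⟨q, rfl⟩ : ∃ q : PrimeSpectrum B, q.asIdeal = I := ⟨⟨I, hI⟩, rfl⟩
  have h2 := congrFun hc q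
  rw [t_apply] at h2
  have h3 : algebraMap B q.asIdeal.ResidueField c = 0 := (map_eq_zero _).mp h2
  exact Ideal.algebraMap_residueField_eq_zero.mp h3

variable (f : A →+* B) (g : η.M A →+* η.M B)
  (hg : ∀ x : η.M A, ((g x : η.M B) : η.N B) = η.Nmap f (x : η.N A))

include hg in
lemma comp_q_eq : g.comp (η.q A) = (η.q B).comp f := by
  refine RingHom.ext fun a => Subtype.ext ?_
  show ((g (η.q A a) : η.M B) : η.N B) = η.t B (f a)
  rw [hg, ← η.Nmap_t_apply]
  rfl

include hg in
/-- S19577 -/
theorem isIntegral_iff_and_surjective_iff (hA : (minimalPrimes A).Finite)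
    (hB : (minimalPrimes B).Finite) :
    (f.IsIntegral ↔ g.IsIntegral) ∧
      (Function.Surjective (PrimeSpectrum.comap f) ↔
        Function.Surjective (PrimeSpectrum.comap g)) := by
  have hcomp := comp_q_eq η f g hg
  constructor
  · constructor
    · intro hf
      have h1 : ((η.q B).comp f).IsIntegral := hf.trans _ _ (q_isIntegral η hB)
      rw [← hcomp] at h1
      exact RingHom.IsIntegral.tower_top _ _ h1
    · intro hgi
      have h1 : (g.comp (η.q A)).IsIntegral := (q_isIntegral η hA).trans _ _ hgi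
      rw [hcomp] at h1
      intro b
      obtain ⟨P, hP, hP0⟩ := h1 (η.q B b)
      rw [← Polynomial.eval₂_map, Polynomial.eval₂_at_apply, Polynomial.eval_map] at hP0
      have hnil : IsNilpotent (Polynomial.eval₂ f b P) := by
        apply isNilpotent_of_t_eq_zero η
        exact congrArg Subtype.val hP0
      obtain ⟨n, hn⟩ := hnil
      refine ⟨P ^ n, hP.pow n, ?_⟩
      rw [Polynomial.eval₂_pow, hn]
  · have h1 : PrimeSpectrum.comap f ∘ PrimeSpectrum.comap (η.q B) =
        PrimeSpectrum.comap (η.q A) ∘ PrimeSpectrum.comap g := by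
      funext Q
      show PrimeSpectrum.comap f (PrimeSpectrum.comap (η.q B) Q) =
        PrimeSpectrum.comap (η.q A) (PrimeSpectrum.comap g Q)
      rw [← PrimeSpectrum.comap_comp_apply, ← PrimeSpectrum.comap_comp_apply, hcomp]
    rw [← Function.Surjective.of_comp_iff _ (comap_q_bijective η hB).2, h1,
      Function.Surjective.of_comp_iff' (comap_q_bijective η hA)]

include hg in
/-- S19578 -/
theorem comap_bijective_of_M_bijective (hA : (minimalPrimes A).Finite)
    (hB : (minimalPrimes B).Finite) (hbij : Function.Bijective g) :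
    Function.Bijective (PrimeSpectrum.comap f) ∧
      ∀ Q : PrimeSpectrum B,
        ∃ φ : Q.asIdeal.ResidueField →+* η.obj (PrimeSpectrum.comap f Q).asIdeal.ResidueField,
          φ.comp (Ideal.ResidueField.map (PrimeSpectrum.comap f Q).asIdeal Q.asIdeal f rfl) =
            η.eta (PrimeSpectrum.comap f Q).asIdeal.ResidueField := by
  have hcomp := comp_q_eq η f g hg
  let e := RingEquiv.ofBijective g hbij
  have hcomm : PrimeSpectrum.comap f ∘ PrimeSpectrum.comap (η.q B) =
      PrimeSpectrum.comap (η.q A) ∘ PrimeSpectrum.comap g := by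
    funext Q
    show PrimeSpectrum.comap f (PrimeSpectrum.comap (η.q B) Q) =
      PrimeSpectrum.comap (η.q A) (PrimeSpectrum.comap g Q)
    rw [← PrimeSpectrum.comap_comp_apply, ← PrimeSpectrum.comap_comp_apply, hcomp]
  have hgb : Function.Bijective (PrimeSpectrum.comap g) := by
    refine Function.bijective_iff_has_inverse.mpr ⟨PrimeSpectrum.comap (e.symm : η.M B →+* η.M A),
      fun Q => ?_, fun Q => ?_⟩
    · rw [← PrimeSpectrum.comap_comp_apply]
      have : g.comp (e.symm : η.M B →+* η.M A) = RingHom.id _ :=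
        RingHom.ext fun x => e.apply_symm_apply x
      rw [this, PrimeSpectrum.comap_id]
    · rw [← PrimeSpectrum.comap_comp_apply]
      have : (e.symm : η.M B →+* η.M A).comp g = RingHom.id _ :=
        RingHom.ext fun x => e.symm_apply_apply x
      rw [this, PrimeSpectrum.comap_id]
  have hfb : Function.Bijective (PrimeSpectrum.comap f) := by
    rw [← Function.Bijective.of_comp_iff _ (comap_q_bijective η hB), hcomm]
    exact (comap_q_bijective η hA).comp hgb
  refine ⟨hfb, fun Q => ?_⟩
  set p := PrimeSpectrum.comap f Q with hp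
  let ψ : B →+* η.obj p.asIdeal.ResidueField :=
    (ev η p).comp ((e.symm : η.M B →+* η.M A).comp (η.q B))
  have hψf : ∀ a, ψ (f a) = phi η p a := by
    intro a
    show ev η p (e.symm (η.q B (f a))) = _
    have : e.symm (η.q B (f a)) = η.q A a := by
      rw [RingEquiv.symm_apply_eq]
      exact (congrArg (fun h => h a) (congrArg DFunLike.coe hcomp)).symm
    rw [this]; rfl
  -- the kernel of ψ is Q
  have hker : RingHom.ker ψ = Q.asIdeal := by
    let Q₁ : PrimeSpectrum B := ⟨RingHom.ker ψ, RingHom.ker_isPrime ψ⟩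
    have h1 : PrimeSpectrum.comap f Q₁ = p := by
      apply PrimeSpectrum.ext
      ext a
      show ψ (f a) = 0 ↔ _
      rw [hψf, ← RingHom.mem_ker, ker_phi]
    have h2 : Q₁ = Q := hfb.1 (h1.trans hp)
    exact congrArg PrimeSpectrum.asIdeal h2
  have h2 : Q.asIdeal.primeCompl ≤ (IsUnit.submonoid _).comap ψ := by
    intro b hb
    show IsUnit (ψ b)
    rw [isUnit_iff_ne_zero]
    intro h0
    exact hb (hker ▸ (RingHom.mem_ker.mpr h0))
  refine ⟨Ideal.ResidueField.lift Q.asIdeal ψ hker.ge h2, ?_⟩
  apply Ideal.ResidueField.ringHom_ext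
  ext a
  simp only [RingHom.comp_apply]
  rw [Ideal.ResidueField.map_algebraMap, Ideal.ResidueField.lift_algebraMap, hψf]
  rfl

end Func

end Groth.Agent.H8.EtaLib
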