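import Mathlib
import Groth.Prelude.Def_W4c1chowmix47Eta
import Groth.Agent.Lib.Helper8.EtaPt.Func

set_option autoImplicit false
open EtaPt
universe u
namespace Groth.Agent.H8.EtaLib
variable (η : FieldEndo.{u})

section Gen

lemma comap_surjective_of_isIntegral_of_nilpotent_ker {R S : Type*} [CommRing R] [CommRing S]
    (g : R →+* S) (hg : g.IsIntegral) (hk : ∀ r, g r = 0 → IsNilpotent r) :
    Function.Surjective (PrimeSpectrum.comap g) := by
  algebraize [g]
  intro ⟨p, hp⟩
  obtain ⟨Q, _, hQ, hQp⟩ := Ideal.exists_ideal_over_prime_of_isIntegral p (⊥ : Ideal S) (by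
    intro r hr
    have h0 : g r = 0 := hr
    obtain ⟨n, hn⟩ := hk r h0
    exact hp.mem_of_pow_mem n (hn ▸ zero_mem _))
  exact ⟨⟨Q, hQ⟩, PrimeSpectrum.ext hQp⟩

/-- if `φ ∘ r = η_k` then `F(r)` is bijective -/
lemma map_bijective_of_comp_eq_eta {k k' : Type u} [Field k] [Field k'] (r : k →+* k')
    (φ : k' →+* η.obj k) (h : φ.comp r = η.eta k) : Function.Bijective (η.map r) := by
  refine ⟨map_injective η r, fun z => ?_⟩
  obtain ⟨w, hw⟩ := (η.bijective_map_eta k).2 (η.map φ z)
  refine ⟨w, map_injective η φ ?_⟩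
  rw [← RingHom.comp_apply, ← η.map_comp, h]
  exact hw

end Gen

section LiftPhi

variable {A C : Type u} [CommRing A] [CommRing C] (h : A →+* C)

/-- the pattern producing `φ : κ(Q) → F κ(P)` from a map `ψ : C → F κ(P)` extending `phi`. -/
lemma exists_phi_of_psi (hinj : Function.Injective (PrimeSpectrum.comap h)) (Q : PrimeSpectrum C)
    (ψ : C →+* η.obj (PrimeSpectrum.comap h Q).asIdeal.ResidueField)
    (hψ : ∀ a, ψ (h a) = phi η (PrimeSpectrum.comap h Q) a) :
    ∃ φ : Q.asIdeal.ResidueField →+* η.obj (PrimeSpectrum.comap h Q).asIdeal.ResidueField,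
      φ.comp (algebraMap C Q.asIdeal.ResidueField) = ψ ∧
      φ.comp (Ideal.ResidueField.map (PrimeSpectrum.comap h Q).asIdeal Q.asIdeal h rfl) =
        η.eta (PrimeSpectrum.comap h Q).asIdeal.ResidueField := by
  have hker : RingHom.ker ψ = Q.asIdeal := by
    let Q₁ : PrimeSpectrum C := ⟨RingHom.ker ψ, RingHom.ker_isPrime ψ⟩
    have h1 : PrimeSpectrum.comap h Q₁ = PrimeSpectrum.comap h Q := by
      apply PrimeSpectrum.ext
      ext a
      show ψ (h a) = 0 ↔ _
      rw [hψ, ← RingHom.mem_ker, ker_phi]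
    exact congrArg PrimeSpectrum.asIdeal (hinj h1)
  have h2 : Q.asIdeal.primeCompl ≤ (IsUnit.submonoid _).comap ψ := by
    intro b hb
    show IsUnit (ψ b)
    rw [isUnit_iff_ne_zero]
    intro h0
    exact hb (hker ▸ (RingHom.mem_ker.mpr h0))
  refine ⟨Ideal.ResidueField.lift Q.asIdeal ψ hker.ge h2, ?_, ?_⟩
  · ext c
    exact Ideal.ResidueField.lift_algebraMap _ _ _ h2 c
  · apply Ideal.ResidueField.ringHom_ext
    ext a
    simp only [RingHom.comp_apply]
    rw [Ideal.ResidueField.map_algebraMap, Ideal.ResidueField.lift_algebraMap, hψ]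
    rfl

end LiftPhi

section Rel

variable {A B : Type u} [CommRing A] [CommRing B] (f : A →+* B)

lemma mem_rel_iff {b : B} : b ∈ η.rel f ↔ ∃ x ∈ η.M A, η.Nmap f x = η.t B b := Iff.rfl

/-- functoriality of `rel` in commutative squares -/
lemma map_mem_rel_of_comm {A' B' : Type u} [CommRing A'] [CommRing B'] (f' : A' →+* B')
    (a : A →+* A') (b : B →+* B') (h : f'.comp a = b.comp f) {y : B} (hy : y ∈ η.rel f) :
    b y ∈ η.rel f' := by
  obtain ⟨x, hx, hxy⟩ := hy
  refine ⟨η.Nmap a x, Nmap_mem_M η a hx, ?_⟩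
  rw [← Nmap_comp_apply, h, Nmap_comp_apply, hxy, η.Nmap_t_apply]

variable (hs : Function.Surjective (PrimeSpectrum.comap f))

include hs in
lemma existsUnique_of_mem_rel (c : η.rel f) : ∃! x : η.M A, η.Nmap f (x : η.N A) = η.t B c := by
  obtain ⟨x, hx, hxc⟩ := c.2
  refine ⟨⟨x, hx⟩, hxc, fun y hy => Subtype.ext ?_⟩
  exact Nmap_injective_of_comap_surjective η f hs (hy.trans hxc.symm)

/-- `σ : (B/A)_η → M A` -/
noncomputable def sigma : η.rel f →+* η.M A :=
  ((Subring.equivMapOfInjective (η.M A) (η.Nmap f)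
    (Nmap_injective_of_comap_surjective η f hs)).symm : _ →+* η.M A).comp
    ((η.t B).restrict (η.rel f) ((η.M A).map (η.Nmap f)) (fun _ hc => hc))

lemma Nmap_sigma (c : η.rel f) : η.Nmap f (sigma η f hs c : η.N A) = η.t B c := by
  have h := (Subring.equivMapOfInjective (η.M A) (η.Nmap f)
    (Nmap_injective_of_comap_surjective η f hs)).apply_symm_apply
    ((η.t B).restrict (η.rel f) ((η.M A).map (η.Nmap f)) (fun _ hc => hc) c)
  exact congrArg Subtype.val h

lemma sigma_eq_iff (c : η.rel f) (x : η.M A) :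
    sigma η f hs c = x ↔ η.Nmap f (x : η.N A) = η.t B c := by
  constructor
  · rintro rfl; exact Nmap_sigma η f hs c
  · intro h
    apply Subtype.ext
    apply Nmap_injective_of_comap_surjective η f hs
    rw [Nmap_sigma, h]

lemma sigma_comp_qRel : (sigma η f hs).comp (η.qRel f) = η.q A := by
  refine RingHom.ext fun a => ?_
  rw [RingHom.comp_apply, sigma_eq_iff]
  exact η.Nmap_t_apply f a

lemma isNilpotent_of_sigma_eq_zero (c : η.rel f) (h : sigma η f hs c = 0) : IsNilpotent c := by
  have h1 : η.t B c = 0 := by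
    rw [← Nmap_sigma η f hs c, h]
    exact map_zero _
  obtain ⟨n, hn⟩ := isNilpotent_of_t_eq_zero η h1
  exact ⟨n, Subtype.ext hn⟩

variable (hA : (minimalPrimes A).Finite)

include hs hA in
lemma qRel_isIntegral : (η.qRel f).IsIntegral := by
  intro c
  obtain ⟨P, hP, hP0⟩ := q_isIntegral η hA (sigma η f hs c)
  rw [← sigma_comp_qRel η f hs, ← Polynomial.hom_eval₂] at hP0
  obtain ⟨n, hn⟩ := isNilpotent_of_sigma_eq_zero η f hs _ hP0
  refine ⟨P ^ n, hP.pow n, ?_⟩
  rw [Polynomial.eval₂_pow, hn]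

include hA in
lemma sigma_isIntegral : (sigma η f hs).IsIntegral := by
  have h1 : ((sigma η f hs).comp (η.qRel f)).IsIntegral := by
    rw [sigma_comp_qRel]; exact q_isIntegral η hA
  exact RingHom.IsIntegral.tower_top _ _ h1

include hA in
lemma comap_sigma_bijective : Function.Bijective (PrimeSpectrum.comap (sigma η f hs)) := by
  have h1 : PrimeSpectrum.comap (η.qRel f) ∘ PrimeSpectrum.comap (sigma η f hs) =
      PrimeSpectrum.comap (η.q A) := by
    funext Q
    show PrimeSpectrum.comap (η.qRel f) (PrimeSpectrum.comap (sigma η f hs) Q) = _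
    rw [← PrimeSpectrum.comap_comp_apply, sigma_comp_qRel]
  have h2 : Function.Injective (PrimeSpectrum.comap (sigma η f hs)) := by
    have : Function.Injective (PrimeSpectrum.comap (η.qRel f) ∘
        PrimeSpectrum.comap (sigma η f hs)) := by
      rw [h1]; exact (comap_q_bijective η hA).1
    exact this.of_comp
  exact ⟨h2, comap_surjective_of_isIntegral_of_nilpotent_ker _ (sigma_isIntegral η f hs hA)
    (isNilpotent_of_sigma_eq_zero η f hs)⟩

include hs hA in
lemma comap_qRel_bijective : Function.Bijective (PrimeSpectrum.comap (η.qRel f)) := by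
  have h1 : PrimeSpectrum.comap (η.qRel f) ∘ PrimeSpectrum.comap (sigma η f hs) =
      PrimeSpectrum.comap (η.q A) := by
    funext Q
    show PrimeSpectrum.comap (η.qRel f) (PrimeSpectrum.comap (sigma η f hs) Q) = _
    rw [← PrimeSpectrum.comap_comp_apply, sigma_comp_qRel]
  rw [← Function.Bijective.of_comp_iff _ (comap_sigma_bijective η f hs hA), h1]
  exact comap_q_bijective η hA

include hs hA in
/-- S13817 -/
theorem qRel_isIntegral_and_comap_bijective :
    (η.qRel f).IsIntegral ∧ Function.Bijective (PrimeSpectrum.comap (η.qRel f)) :=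
  ⟨qRel_isIntegral η f hs hA, comap_qRel_bijective η f hs hA⟩

include hA in
lemma exists_phi_rel (Q : PrimeSpectrum (η.rel f)) :
    ∃ φ : Q.asIdeal.ResidueField →+*
        η.obj (PrimeSpectrum.comap (η.qRel f) Q).asIdeal.ResidueField,
      φ.comp (algebraMap (η.rel f) Q.asIdeal.ResidueField) =
        (ev η (PrimeSpectrum.comap (η.qRel f) Q)).comp (sigma η f hs) ∧
      φ.comp (Ideal.ResidueField.map (PrimeSpectrum.comap (η.qRel f) Q).asIdeal Q.asIdeal
        (η.qRel f) rfl) = η.eta (PrimeSpectrum.comap (η.qRel f) Q).asIdeal.ResidueField := by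
  apply exists_phi_of_psi η (η.qRel f) (comap_qRel_bijective η f hs hA).1 Q
  intro a
  show ev η _ (sigma η f hs (η.qRel f a)) = _
  rw [← RingHom.comp_apply (sigma η f hs), sigma_comp_qRel]
  rfl

include hA in
/-- relative analogue of S13815 (1) -/
theorem Nmap_qRel_sigma (c : η.rel f) :
    η.Nmap (η.qRel f) (sigma η f hs c : η.N A) = η.t (η.rel f) c := by
  funext Q
  obtain ⟨φ, hφ1, hφ2⟩ := exists_phi_rel η f hs hA Q
  rw [Nmap_apply, t_apply]
  apply map_injective η φ
  rw [← RingHom.comp_apply, ← η.map_comp, hφ2, eta_natural_apply, ← RingHom.comp_apply φ, hφ1,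
    ← eta_obj]
  rfl

include hs hA in
theorem Nmap_qRel_bijective : Function.Bijective (η.Nmap (η.qRel f)) := by
  apply Nmap_bijective_of η _ (comap_qRel_bijective η f hs hA)
  intro Q
  obtain ⟨φ, -, hφ2⟩ := exists_phi_rel η f hs hA Q
  exact (map_bijective_of_comp_eq_eta η _ φ hφ2).2

include hs hA in
/-- S13818 -/
theorem rel_residue_and_Nmap :
    (∀ Q : PrimeSpectrum (η.rel f),
        ∃ φ : Q.asIdeal.ResidueField →+*
            η.obj (PrimeSpectrum.comap (η.qRel f) Q).asIdeal.ResidueField,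
          φ.comp (Ideal.ResidueField.map (PrimeSpectrum.comap (η.qRel f) Q).asIdeal Q.asIdeal
            (η.qRel f) rfl) = η.eta (PrimeSpectrum.comap (η.qRel f) Q).asIdeal.ResidueField) ∧
      Function.Bijective (η.Nmap (η.qRel f)) := by
  refine ⟨fun Q => ?_, Nmap_qRel_bijective η f hs hA⟩
  obtain ⟨φ, -, hφ2⟩ := exists_phi_rel η f hs hA Q
  exact ⟨φ, hφ2⟩

end Rel

section Rel2

/-- S13819 -/
theorem range_le_rel {A B' B : Type u} [CommRing A] [CommRing B'] [CommRing B]
    (f₁ : A →+* B') (f₂ : B' →+* B) (h₁ : f₁.IsIntegral)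
    (hN : Function.Bijective (η.Nmap f₁)) : f₂.range ≤ η.rel (f₂.comp f₁) := by
  rintro _ ⟨b', rfl⟩
  obtain ⟨x, hx, hxb⟩ := (bijOn_M η f₁ h₁ hN).surjOn (η.t_mem_M B' b')
  refine ⟨x, hx, ?_⟩
  rw [Nmap_comp_apply, hxb, η.Nmap_t_apply]

lemma qRel_injective_iff {A B : Type u} [CommRing A] [CommRing B] (f : A →+* B) :
    Function.Injective (η.qRel f) ↔ Function.Injective f := by
  constructor
  · intro h a b hab
    exact h (Subtype.ext hab)
  · intro h a b hab
    exact h (congrArg Subtype.val hab)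

lemma qRel_surjective_iff {A B : Type u} [CommRing A] [CommRing B] (f : A →+* B) :
    Function.Surjective (η.qRel f) ↔ ∀ b ∈ η.rel f, ∃ a, f a = b := by
  constructor
  · intro h b hb
    obtain ⟨a, ha⟩ := h ⟨b, hb⟩
    exact ⟨a, congrArg Subtype.val ha⟩
  · intro h b
    obtain ⟨a, ha⟩ := h b.1 b.2
    exact ⟨a, Subtype.ext ha⟩

/-- S13821 -/
theorem qRel_comp {A B C : Type u} [CommRing A] [CommRing B] [CommRing C]
    (f : A →+* B) (g : B →+* C)
    (hg : Function.Surjective (PrimeSpectrum.comap g)) :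
    (Function.Bijective (η.qRel f) → Function.Bijective (η.qRel g) →
        Function.Bijective (η.qRel (g.comp f))) ∧
      (Function.Injective g → Function.Bijective (η.qRel (g.comp f)) →
        Function.Bijective (η.qRel f)) := by
  constructor
  · intro hf hgb
    refine ⟨(qRel_injective_iff η _).mpr ?_, (qRel_surjective_iff η _).mpr ?_⟩
    · exact ((qRel_injective_iff η g).mp hgb.1).comp ((qRel_injective_iff η f).mp hf.1)
    · rintro c ⟨x, hx, hxc⟩
      rw [Nmap_comp_apply] at hxc
      obtain ⟨b, rfl⟩ := (qRel_surjective_iff η g).mp hgb.2 c ⟨_, Nmap_mem_M η f hx, hxc⟩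
      rw [← η.Nmap_t_apply] at hxc
      have hxb := Nmap_injective_of_comap_surjective η g hg hxc
      obtain ⟨a, rfl⟩ := (qRel_surjective_iff η f).mp hf.2 b ⟨x, hx, hxb⟩
      exact ⟨a, rfl⟩
  · intro hginj hgf
    refine ⟨(qRel_injective_iff η _).mpr ?_, (qRel_surjective_iff η _).mpr ?_⟩
    · have := (qRel_injective_iff η _).mp hgf.1
      exact Function.Injective.of_comp this
    · rintro b ⟨x, hx, hxb⟩
      have : g b ∈ η.rel (g.comp f) := by
        refine ⟨x, hx, ?_⟩
        rw [Nmap_comp_apply, hxb, η.Nmap_t_apply]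
      obtain ⟨a, ha⟩ := (qRel_surjective_iff η _).mp hgf.2 _ this
      exact ⟨a, hginj ha⟩

/-- S13828 -/
theorem qRel_cartesian {A A' B B' : Type u} [CommRing A] [CommRing A'] [CommRing B] [CommRing B']
    (j : A →+* B) (f : A →+* A') (g : B →+* B') (j' : A' →+* B') (hcomm : j'.comp f = g.comp j)
    (hcart : ∀ (a' : A') (b : B), j' a' = g b → ∃! a : A, f a = a' ∧ j a = b)
    (h : Function.Bijective (η.qRel j')) : Function.Bijective (η.qRel j) := by
  have hj'inj := (qRel_injective_iff η j').mp h.1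
  refine ⟨(qRel_injective_iff η _).mpr ?_, (qRel_surjective_iff η _).mpr ?_⟩
  · rw [injective_iff_map_eq_zero]
    intro a ha
    have h1 : j' (f a) = g (j a) := congrArg (fun φ => φ a) (congrArg DFunLike.coe hcomm)
    have h2 : f a = 0 := by
      apply hj'inj
      rw [h1, ha, map_zero, map_zero]
    obtain ⟨a₀, -, huniq⟩ := hcart 0 0 (by rw [map_zero, map_zero])
    rw [huniq a ⟨h2, ha⟩, huniq 0 ⟨map_zero _, map_zero _⟩]
  · intro b hb
    have h1 : g b ∈ η.rel j' := map_mem_rel_of_comm η j j' f g hcomm hb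
    obtain ⟨a', ha'⟩ := (qRel_surjective_iff η j').mp h.2 _ h1
    obtain ⟨a, ⟨-, ha⟩, -⟩ := hcart a' b ha'
    exact ⟨a, ha⟩

/-- S13820 -/
theorem rel_integralClosure (A B : Type u) [CommRing A] [CommRing B] [Algebra A B]
    (hA : (minimalPrimes A).Finite)
    (hs : Function.Surjective (PrimeSpectrum.comap (algebraMap A B))) :
    (η.rel (algebraMap A (integralClosure A B))).map (integralClosure A B).val.toRingHom =
      η.rel (algebraMap A B) := by
  apply le_antisymm
  · rintro _ ⟨c, hc, rfl⟩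
    exact map_mem_rel_of_comm η (algebraMap A (integralClosure A B)) (algebraMap A B)
      (RingHom.id A) (integralClosure A B).val.toRingHom rfl hc
  · intro b hb
    set f := algebraMap A B with hf
    have hint : ∀ c : η.rel f, IsIntegral A (c : B) := by
      intro c
      obtain ⟨P, hP, hP0⟩ := qRel_isIntegral η f hs hA c
      refine ⟨P, hP, ?_⟩
      have := congrArg (η.rel f).subtype hP0
      rw [Polynomial.hom_eval₂, map_zero] at this
      exact this
    let j : η.rel f →+* integralClosure A B :=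
      (η.rel f).subtype.codRestrict (integralClosure A B) hint
    have hj : algebraMap A (integralClosure A B) = j.comp (η.qRel f) := by
      ext a
      rfl
    refine ⟨j ⟨b, hb⟩, ?_, rfl⟩
    refine ⟨sigma η f hs ⟨b, hb⟩, (sigma η f hs ⟨b, hb⟩).2, ?_⟩
    rw [hj, Nmap_comp_apply, Nmap_qRel_sigma η f hs hA, η.Nmap_t_apply]

end Rel2

end Groth.Agent.H8.EtaLib
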