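import Mathlib
import Groth.Prelude.Def_W4c1chowmix47Eta
import Groth.Agent.Lib.Helper8.EtaPt.Rel

set_option autoImplicit false
open EtaPt
universe u
namespace Groth.Agent.H8.EtaLib
variable (η : FieldEndo.{u})

section FFlat

open TensorProduct in
/-- S13822 -/
theorem qRel_of_faithfullyFlat (A A' B : Type u) [CommRing A] [CommRing A'] [CommRing B]
    [Algebra A A'] [Algebra A B] [Module.FaithfullyFlat A A']
    (h : Function.Bijective
      (η.qRel (Algebra.TensorProduct.includeLeftRingHom : A' →+* A' ⊗[A] B))) :
    Function.Bijective (η.qRel (algebraMap A B)) := by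
  have hinj' := (qRel_injective_iff η _).mp h.1
  refine ⟨(qRel_injective_iff η _).mpr ?_, (qRel_surjective_iff η _).mpr ?_⟩
  · rw [injective_iff_map_eq_zero]
    intro a ha
    apply FaithfulSMul.algebraMap_injective A A'
    rw [map_zero]
    apply hinj'
    rw [map_zero]
    show (algebraMap A A' a) ⊗ₜ[A] (1 : B) = 0
    rw [Algebra.algebraMap_eq_smul_one, TensorProduct.smul_tmul, ← Algebra.algebraMap_eq_smul_one,
      ha, TensorProduct.tmul_zero]
  · intro b hb
    let il : A' →+* A' ⊗[A] B := Algebra.TensorProduct.includeLeftRingHom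
    let ir : B →+* A' ⊗[A] B :=
      (Algebra.TensorProduct.includeRight : B →ₐ[A] A' ⊗[A] B).toRingHom
    have hcomm : il.comp (algebraMap A A') = ir.comp (algebraMap A B) := by
      refine RingHom.ext fun a => ?_
      show (algebraMap A A' a) ⊗ₜ[A] (1 : B) = (1 : A') ⊗ₜ[A] (algebraMap A B a)
      rw [Algebra.algebraMap_eq_smul_one, TensorProduct.smul_tmul,
        ← Algebra.algebraMap_eq_smul_one]
    have h1 : ir b ∈ η.rel il :=
      map_mem_rel_of_comm η (algebraMap A B) il (algebraMap A A') ir hcomm hb
    obtain ⟨a', ha'⟩ := (qRel_surjective_iff η _).mp h.2 _ h1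
    have ha'' : a' ⊗ₜ[A] (1 : B) = (1 : A') ⊗ₜ[A] b := ha'
    let π : B →ₗ[A] (B ⧸ LinearMap.range (Algebra.linearMap A B)) := Submodule.mkQ _
    have hπ1 : π 1 = 0 := by
      rw [Submodule.mkQ_apply, Submodule.Quotient.mk_eq_zero]
      exact ⟨1, by simp⟩
    have h2 : (1 : A') ⊗ₜ[A] (π b) = 0 := by
      have := congrArg (LinearMap.lTensor A' π) ha''
      rw [LinearMap.lTensor_tmul, LinearMap.lTensor_tmul, hπ1, TensorProduct.tmul_zero] at this
      exact this.symm
    have h3 : π b = 0 := by
      apply Module.FaithfullyFlat.tensorProduct_mk_injective (A := A) (B := A')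
      rw [map_zero]
      exact h2
    rw [Submodule.mkQ_apply, Submodule.Quotient.mk_eq_zero] at h3
    obtain ⟨a, ha⟩ := h3
    exact ⟨a, ha⟩

open nonZeroDivisors in
/-- S13823 -/
theorem qRel_integralClosure_of_faithfullyFlat (A A' : Type u) [CommRing A] [CommRing A']
    [Algebra A A'] [Module.FaithfullyFlat A A']
    (h : Function.Bijective
      (η.qRel (algebraMap A' (integralClosure A' (FractionRing A'))))) :
    Function.Bijective (η.qRel (algebraMap A (integralClosure A (FractionRing A)))) := by
  refine ⟨(qRel_injective_iff η _).mpr ?_, (qRel_surjective_iff η _).mpr ?_⟩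
  · intro a b hab
    apply IsFractionRing.injective A (FractionRing A)
    exact congrArg Subtype.val hab
  · intro c hc
    -- the map on total rings of fractions
    have hnzd : A⁰ ≤ (A'⁰).comap (algebraMap A A') := by
      intro s hs
      rw [Submonoid.mem_comap, mem_nonZeroDivisors_iff_right]
      intro x hx
      have hreg : IsSMulRegular A' s := Module.Flat.isSMulRegular_of_nonZeroDivisors hs
      apply hreg
      show s • x = s • (0 : A')
      rw [smul_zero, Algebra.smul_def, mul_comm]
      exact hx
    let Φ : FractionRing A →+* FractionRing A' :=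
      IsLocalization.map (FractionRing A') (algebraMap A A') hnzd
    have hΦ : ∀ a : A, Φ (algebraMap A _ a) = algebraMap A' _ (algebraMap A A' a) :=
      fun a => IsLocalization.map_eq hnzd a
    have hint : ∀ c : integralClosure A (FractionRing A),
        Φ c ∈ integralClosure A' (FractionRing A') := by
      intro c
      obtain ⟨P, hP, hP0⟩ := c.2
      refine ⟨P.map (algebraMap A A'), hP.map _, ?_⟩
      rw [Polynomial.eval₂_map]
      have : (algebraMap A' (FractionRing A')).comp (algebraMap A A') =
          Φ.comp (algebraMap A (FractionRing A)) := RingHom.ext fun a => (hΦ a).symm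
      rw [this, ← Polynomial.hom_eval₂, hP0, map_zero]
    let Φ' : integralClosure A (FractionRing A) →+* integralClosure A' (FractionRing A') :=
      (Φ.comp (integralClosure A (FractionRing A)).val.toRingHom).codRestrict _ hint
    have hcomm : (algebraMap A' (integralClosure A' (FractionRing A'))).comp (algebraMap A A') =
        Φ'.comp (algebraMap A (integralClosure A (FractionRing A))) := by
      refine RingHom.ext fun a => Subtype.ext ?_
      exact (hΦ a).symm
    have h1 := map_mem_rel_of_comm η (algebraMap A (integralClosure A (FractionRing A)))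
      (algebraMap A' (integralClosure A' (FractionRing A'))) (algebraMap A A') Φ' hcomm hc
    obtain ⟨a', ha'⟩ := (qRel_surjective_iff η _).mp h.2 _ h1
    have ha'' : algebraMap A' (FractionRing A') a' = Φ c := congrArg Subtype.val ha'
    obtain ⟨a, s, hcs⟩ := IsLocalization.exists_mk'_eq A⁰ (c : FractionRing A)
    have h2 : algebraMap A A' a = algebraMap A A' s * a' := by
      apply IsFractionRing.injective A' (FractionRing A')
      rw [map_mul, ha'', ← hΦ, ← hΦ, ← map_mul, ← hcs, mul_comm, IsLocalization.mk'_spec]
    have h3 : a ∈ ((Ideal.span {(s : A)}).map (algebraMap A A')).comap (algebraMap A A') := by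
      rw [Ideal.mem_comap, Ideal.map_span, Set.image_singleton, Ideal.mem_span_singleton]
      exact ⟨a', h2⟩
    rw [Ideal.comap_map_eq_self_of_faithfullyFlat, Ideal.mem_span_singleton] at h3
    obtain ⟨a₀, ha₀⟩ := h3
    refine ⟨a₀, Subtype.ext ?_⟩
    show algebraMap A (FractionRing A) a₀ = c
    rw [← hcs, IsLocalization.eq_mk'_iff_mul_eq, ← map_mul, ha₀, mul_comm]

end FFlat

end Groth.Agent.H8.EtaLib
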