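import Mathlib
import Groth.Prelude.Def_W4c1chowmix47Eta
import Groth.Agent.Lib.Helper8.EtaPt.FFlat

set_option autoImplicit false
open EtaPt
universe u
namespace Groth.Agent.H8.EtaLib
variable (η : FieldEndo.{u})

section AwayVal

variable (R : Type u) [CommRing R] [IsDomain R] [ValuationRing R] (c : R)

/-- The localization of a valuation ring `R ∈ V_η` away from a nonzero element is again in `V_η`,
and `R` is integrally closed in it. -/
theorem away_valuationRing (hR : η.InV R) (hc : c ≠ 0) :
    ∃ (h1 : IsDomain (Localization.Away c)) (_ : @ValuationRing (Localization.Away c) _ h1),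
      @FieldEndo.InV η (Localization.Away c) _ h1 ∧
      Function.Injective (algebraMap R (Localization.Away c)) ∧
      ∀ r' : Localization.Away c, IsIntegral R r' → ∃ r, algebraMap R _ r = r' := by
  have hle : Submonoid.powers c ≤ nonZeroDivisors R :=
    powers_le_nonZeroDivisors_of_noZeroDivisors hc
  have h1 : IsDomain (Localization.Away c) :=
    IsLocalization.isDomain_localization hle
  have hunit : ∀ y : Submonoid.powers c, IsUnit (algebraMap R (FractionRing R) y) := by
    intro y
    rw [isUnit_iff_ne_zero]
    intro h0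
    have : (y : R) = 0 := IsFractionRing.injective R (FractionRing R) (by rw [h0, map_zero])
    exact nonZeroDivisors.ne_zero (hle y.2) this
  let _ : Algebra (Localization.Away c) (FractionRing R) :=
    (IsLocalization.lift (M := Submonoid.powers c) (g := algebraMap R (FractionRing R))
      hunit).toAlgebra
  have : IsScalarTower R (Localization.Away c) (FractionRing R) :=
    IsScalarTower.of_algebraMap_eq (fun r => (IsLocalization.lift_eq hunit r).symm)
  have : IsFractionRing (Localization.Away c) (FractionRing R) :=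
    IsFractionRing.isFractionRing_of_isDomain_of_isLocalization (Submonoid.powers c) _ _
  have h2 : ValuationRing (Localization.Away c) := by
    rw [ValuationRing.iff_isInteger_or_isInteger (Localization.Away c) (FractionRing R)]
    intro x
    rcases ValuationRing.isInteger_or_isInteger R x with ⟨r, hr⟩ | ⟨r, hr⟩
    · left
      exact ⟨algebraMap R _ r, by rw [← IsScalarTower.algebraMap_apply, hr]⟩
    · right
      exact ⟨algebraMap R _ r, by rw [← IsScalarTower.algebraMap_apply, hr]⟩
  refine ⟨h1, h2, (inV_iff_of_isFractionRing η (Localization.Away c) (FractionRing R)).mpr hR,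
    IsLocalization.injective _ hle, ?_⟩
  intro r' hr'
  have h3 : IsIntegral R (algebraMap (Localization.Away c) (FractionRing R) r') :=
    hr'.algebraMap
  obtain ⟨r, hr⟩ := IsIntegrallyClosed.algebraMap_eq_of_integral h3
  refine ⟨r, ?_⟩
  apply IsFractionRing.injective (Localization.Away c) (FractionRing R)
  rw [← IsScalarTower.algebraMap_apply, hr]

end AwayVal

section AwayM

variable {A : Type u} [CommRing A] (S : Type u) [CommRing S] [Algebra A S]

lemma minimalPrimes_finite_of_isLocalization (M : Submonoid A) [IsLocalization M S]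
    (hA : (minimalPrimes A).Finite) : (minimalPrimes S).Finite := by
  have h := IsLocalization.minimalPrimes_map M S (⊥ : Ideal A)
  rw [Ideal.map_bot] at h
  show (⊥ : Ideal S).minimalPrimes.Finite
  rw [h]
  apply Set.Finite.preimage _ hA
  intro I _ J _ hIJ
  rw [← IsLocalization.map_under M S I, ← IsLocalization.map_under M S J]
  exact congrArg _ hIJ

lemma t_mul_eq_zero_of_Nmap_eq_zero (f : A) [IsLocalization.Away f S] (x : η.N A)
    (hx : η.Nmap (algebraMap A S) x = 0) : η.t A f * x = 0 := by
  funext p
  show η.t A f p * x p = 0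
  by_cases hfp : f ∈ p.asIdeal
  · rw [t_apply, Ideal.algebraMap_residueField_eq_zero.mpr hfp, map_zero, zero_mul]
  · have hp : p ∈ Set.range (PrimeSpectrum.comap (algebraMap A S)) := by
      rw [PrimeSpectrum.localization_away_comap_range S f]
      exact hfp
    obtain ⟨q, rfl⟩ := hp
    have h1 := congrFun hx q
    rw [Nmap_apply] at h1
    have h2 : x (PrimeSpectrum.comap (algebraMap A S) q) = 0 := (map_eq_zero _).mp h1
    rw [h2, mul_zero]

/-- integrality clearing: every element of `M S` has a multiple by a power of `f` which is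
integral over `A` -/
lemma exists_pow_mul_isIntegral (hA : (minimalPrimes A).Finite) (f : A) [IsLocalization.Away f S]
    {y : η.N S} (hy : y ∈ η.M S) :
    ∃ k : ℕ, ((η.t S).comp (algebraMap A S)).IsIntegralElem
      (y * η.t S (algebraMap A S f) ^ k) := by
  have hS : (minimalPrimes S).Finite :=
    minimalPrimes_finite_of_isLocalization S (Submonoid.powers f) hA
  obtain ⟨P, hP, hP0⟩ := q_isIntegral η hS ⟨y, hy⟩
  have hP0' : Polynomial.eval₂ (η.t S) y P = 0 := by
    have := congrArg (η.M S).subtype hP0
    rw [Polynomial.hom_eval₂, map_zero] at this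
    exact this
  let _ : Algebra S (η.N S) := (η.t S).toAlgebra
  let _ : Algebra A (η.N S) := ((η.t S).comp (algebraMap A S)).toAlgebra
  have : IsScalarTower A S (η.N S) := IsScalarTower.of_algebraMap_eq (fun _ => rfl)
  have hint : IsIntegral S y := ⟨P, hP, hP0'⟩
  obtain ⟨⟨m, k, hk⟩, hm⟩ :=
    IsIntegral.exists_multiple_integral_of_isLocalization (Submonoid.powers f) y hint
  refine ⟨k, ?_⟩
  have h1 : (⟨m, k, hk⟩ : Submonoid.powers f) • y =
      y * η.t S (algebraMap A S f) ^ k := by
    rw [Submonoid.smul_def, Algebra.smul_def, mul_comm]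
    show y * η.t S (algebraMap A S m) = _
    rw [← hk, map_pow, map_pow]
  rw [h1] at hm
  exact hm

/-- the key step: an element of `N A` whose image in `N S` is in `M S` and integral over `A`
becomes an element of `M A` after multiplication by `t f`. -/
theorem mul_t_mem_M (f : A) [IsLocalization.Away f S] (x₀ : η.N A)
    (hy : η.Nmap (algebraMap A S) x₀ ∈ η.M S)
    (hint : ((η.t S).comp (algebraMap A S)).IsIntegralElem (η.Nmap (algebraMap A S) x₀)) :
    x₀ * η.t A f ∈ η.M A := by
  intro R _ _ _ hR g
  by_cases hgf : g f = 0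
  · refine ⟨0, ?_⟩
    rw [map_zero, map_mul, η.Nmap_t_apply, hgf, map_zero, mul_zero]
  obtain ⟨h1, h2, hInV, hιinj, hcl⟩ := away_valuationRing η R (g f) hR hgf
  let ι : R →+* Localization.Away (g f) := algebraMap R (Localization.Away (g f))
  let g' : S →+* Localization.Away (g f) := IsLocalization.Away.map S (Localization.Away (g f)) g f
  have hcomm : g'.comp (algebraMap A S) = ι.comp g := by
    refine RingHom.ext fun a => ?_
    simp only [g', ι, IsLocalization.Away.map, RingHom.comp_apply, IsLocalization.map_eq]
  set y := η.Nmap (algebraMap A S) x₀ with hydef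
  obtain ⟨r', hr'⟩ := hy (Localization.Away (g f)) hInV g'
  -- r' is integral over R
  have hr'int : IsIntegral R r' := by
    obtain ⟨P, hP, hP0⟩ := hint
    refine ⟨P.map g, hP.map g, ?_⟩
    rw [Polynomial.eval₂_map]
    have h3 := congrArg (η.Nmap g') hP0
    rw [Polynomial.hom_eval₂, map_zero, ← hr'] at h3
    have h4 : (η.Nmap g').comp ((η.t S).comp (algebraMap A S)) =
        (η.t (Localization.Away (g f))).comp ((algebraMap R (Localization.Away (g f))).comp g) := by
      refine RingHom.ext fun a => ?_
      show η.Nmap g' (η.t S (algebraMap A S a)) = η.t (Localization.Away (g f)) (ι (g a))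
      rw [η.Nmap_t_apply, ← RingHom.comp_apply g', hcomm]
      rfl
    rw [h4, ← Polynomial.hom_eval₂] at h3
    exact t_injective_of_isReduced η (Localization.Away (g f)) (by rw [h3, map_zero])
  obtain ⟨r, hr⟩ := hcl r' hr'int
  -- compare after localizing
  have h5 : η.Nmap ι (η.Nmap g x₀ - η.t R r) = 0 := by
    rw [map_sub, ← Nmap_comp_apply, ← hcomm, Nmap_comp_apply, ← hydef, ← hr', η.Nmap_t_apply,
      ← hr]
    exact sub_self _
  have h6 := t_mul_eq_zero_of_Nmap_eq_zero η (Localization.Away (g f)) (g f) _ h5
  refine ⟨r * g f, ?_⟩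
  rw [map_mul (η.t R), map_mul (η.Nmap g), η.Nmap_t_apply]
  rw [mul_sub, sub_eq_zero] at h6
  rw [mul_comm (η.Nmap g x₀), h6, mul_comm]

/-- S13825 in general form -/
theorem away_M (hA : (minimalPrimes A).Finite) (f : A) [IsLocalization.Away f S] :
    (∀ y ∈ η.M S, ∃ x ∈ η.M A, ∃ n : ℕ,
        y * η.t S (algebraMap A S f) ^ n = η.Nmap (algebraMap A S) x) ∧
      ∀ x ∈ η.M A, η.Nmap (algebraMap A S) x = 0 → ∃ n : ℕ, η.t A f ^ n * x = 0 := by
  constructor
  · intro y hy
    obtain ⟨k, hk⟩ := exists_pow_mul_isIntegral η S hA f hy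
    obtain ⟨x₀, hx₀⟩ := Nmap_surjective_of_isLocalization η S (Submonoid.powers f) y
    have hx₁ : η.Nmap (algebraMap A S) (x₀ * η.t A f ^ k) =
        y * η.t S (algebraMap A S f) ^ k := by
      rw [map_mul, map_pow, η.Nmap_t_apply, hx₀]
    refine ⟨x₀ * η.t A f ^ k * η.t A f, ?_, k + 1, ?_⟩
    · apply mul_t_mem_M η S f
      · rw [hx₁]
        exact Subring.mul_mem _ hy (Subring.pow_mem _ (η.t_mem_M S _) _)
      · rw [hx₁]; exact hk
    · rw [map_mul, hx₁, η.Nmap_t_apply, pow_succ, mul_assoc]
  · intro x _ hx
    exact ⟨1, by rw [pow_one]; exact t_mul_eq_zero_of_Nmap_eq_zero η S f x hx⟩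

end AwayM

end Groth.Agent.H8.EtaLib
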