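import Mathlib
import Groth.Prelude.Def_W4c1chowmix47Eta
import Groth.Agent.Lib.Helper8.EtaPt.Loc

set_option autoImplicit false
open EtaPt
universe u
namespace Groth.Agent.H8.EtaLib
variable (η : FieldEndo.{u})

section LocRel

variable {A B : Type u} [CommRing A] [CommRing B] (φ : A →+* B) (f : A)

lemma awayMap_comp_algebraMap :
    (Localization.awayMap φ f).comp (algebraMap A (Localization.Away f)) =
      (algebraMap B (Localization.Away (φ f))).comp φ := by
  refine RingHom.ext fun a => ?_
  simp only [Localization.awayMap, IsLocalization.Away.map, RingHom.comp_apply,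
    IsLocalization.map_eq]

/-- S13829 -/
theorem rel_away (hA : (minimalPrimes A).Finite) :
    (η.rel φ).map (algebraMap B (Localization.Away (φ f))) ≤ η.rel (Localization.awayMap φ f) ∧
      ∀ y ∈ η.rel (Localization.awayMap φ f), ∃ x ∈ η.rel φ, ∃ n : ℕ,
        y * algebraMap B (Localization.Away (φ f)) (φ f) ^ n =
          algebraMap B (Localization.Away (φ f)) x := by
  have hcomm := awayMap_comp_algebraMap φ f
  constructor
  · rintro _ ⟨b, hb, rfl⟩
    exact map_mem_rel_of_comm η φ (Localization.awayMap φ f) (algebraMap A (Localization.Away f))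
      (algebraMap B (Localization.Away (φ f))) hcomm hb
  · rintro y ⟨w, hw, hwy⟩
    obtain ⟨x₁, hx₁, n₁, hwx⟩ := (away_M η (Localization.Away f) hA f).1 w hw
    obtain ⟨⟨b, ⟨_, m, rfl⟩⟩, hb⟩ := IsLocalization.surj (Submonoid.powers (φ f)) y
    have hb' : y * algebraMap B (Localization.Away (φ f)) (φ f) ^ m =
        algebraMap B (Localization.Away (φ f)) b := by
      rw [← map_pow]; exact hb
    set algA := algebraMap A (Localization.Away f) with halgA
    set algB := algebraMap B (Localization.Away (φ f)) with halgB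
    set φf := Localization.awayMap φ f with hφf
    have hφf_f : φf (algA f) = algB (φ f) :=
      congrArg (fun h => h f) (congrArg DFunLike.coe hcomm)
    -- the difference killed by localization
    have hD : η.Nmap algB (η.t B (b * φ f ^ n₁) - η.Nmap φ (x₁ * η.t A f ^ m)) = 0 := by
      rw [map_sub, sub_eq_zero, η.Nmap_t_apply, ← Nmap_comp_apply, ← hcomm, Nmap_comp_apply,
        map_mul (η.Nmap algA), ← hwx, map_pow (η.Nmap algA), η.Nmap_t_apply, map_mul algB,
        ← hb', map_pow algB]
      rw [map_mul (η.Nmap φf), map_mul (η.Nmap φf), hwy, map_pow (η.Nmap φf),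
        map_pow (η.Nmap φf), η.Nmap_t_apply, hφf_f, map_mul (η.t _), map_mul (η.t _),
        map_pow (η.t _), map_pow (η.t _)]
      ring
    have h6 := t_mul_eq_zero_of_Nmap_eq_zero η (Localization.Away (φ f)) (φ f) _ hD
    rw [mul_sub, sub_eq_zero] at h6
    refine ⟨b * φ f ^ (n₁ + 1), ⟨x₁ * η.t A f ^ (m + 1), ?_, ?_⟩, m + n₁ + 1, ?_⟩
    · exact Subring.mul_mem _ hx₁ (Subring.pow_mem _ (η.t_mem_M A f) _)
    · rw [pow_succ, ← mul_assoc, map_mul (η.Nmap φ), η.Nmap_t_apply, mul_comm, ← h6,
        ← map_mul (η.t B)]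
      congr 1
      ring
    · rw [map_mul algB, ← hb', map_pow algB]
      ring

/-- S19575 -/
theorem qRel_awayMap_bijective (hA : (minimalPrimes A).Finite)
    (h : Function.Bijective (η.qRel φ)) :
    Function.Bijective (η.qRel (Localization.awayMap φ f)) := by
  have hcomm := awayMap_comp_algebraMap φ f
  have hinj := (qRel_injective_iff η φ).mp h.1
  refine ⟨(qRel_injective_iff η _).mpr ?_, (qRel_surjective_iff η _).mpr ?_⟩
  · rw [Localization.awayMap_injective_iff]
    intro a ha
    refine ⟨0, ?_⟩
    rw [pow_zero, one_mul]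
    exact hinj (by rw [ha, map_zero])
  · intro y hy
    obtain ⟨x, hx, n, hyx⟩ := (rel_away η φ f hA).2 y hy
    obtain ⟨a, rfl⟩ := (qRel_surjective_iff η φ).mp h.2 x hx
    refine ⟨IsLocalization.mk' (Localization.Away f) a
      (⟨f ^ n, n, rfl⟩ : Submonoid.powers f), ?_⟩
    have hu : IsUnit (algebraMap B (Localization.Away (φ f)) (φ f) ^ n) :=
      (IsLocalization.Away.algebraMap_isUnit (φ f)).pow n
    apply hu.mul_left_injective
    show _ * _ = y * _
    rw [hyx]
    have h1 : Localization.awayMap φ f (algebraMap A (Localization.Away f) (f ^ n)) =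
        algebraMap B (Localization.Away (φ f)) (φ f) ^ n := by
      rw [← RingHom.comp_apply, hcomm, RingHom.comp_apply, map_pow, map_pow]
    rw [← h1, ← map_mul, IsLocalization.mk'_spec, ← RingHom.comp_apply, hcomm]
    rfl

/-- S19576 -/
theorem qRel_bijective_of_span (hA : (minimalPrimes A).Finite) (s : Finset A)
    (hspan : Ideal.span (s : Set A) = ⊤)
    (h : ∀ f ∈ s, Function.Bijective (η.qRel (Localization.awayMap φ f))) :
    Function.Bijective (η.qRel φ) := by
  refine ⟨(qRel_injective_iff η _).mpr ?_, (qRel_surjective_iff η _).mpr ?_⟩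
  · rw [injective_iff_map_eq_zero]
    intro a ha
    have : a ∈ (⊥ : Submodule A A) := by
      apply Submodule.mem_of_span_eq_top_of_smul_pow_mem _ (s : Set A) hspan
      rintro ⟨f, hf⟩
      have hinj := (qRel_injective_iff η _).mp (h f hf).1
      rw [Localization.awayMap_injective_iff] at hinj
      obtain ⟨n, hn⟩ := hinj a ha
      exact ⟨n, by rw [Submodule.mem_bot, smul_eq_mul]; exact hn⟩
    exact (Submodule.mem_bot A).mp this
  · intro b hb
    let _ : Algebra A B := φ.toAlgebra
    have : b ∈ LinearMap.range (Algebra.linearMap A B) := by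
      apply Submodule.mem_of_span_eq_top_of_smul_pow_mem _ (s : Set A) hspan
      rintro ⟨f, hf⟩
      have hb' : algebraMap B (Localization.Away (φ f)) b ∈ η.rel (Localization.awayMap φ f) :=
        (rel_away η φ f hA).1 ⟨b, hb, rfl⟩
      obtain ⟨z, hz⟩ := (qRel_surjective_iff η _).mp (h f hf).2 _ hb'
      obtain ⟨⟨a, ⟨_, n, rfl⟩⟩, ha⟩ := IsLocalization.surj (Submonoid.powers f) z
      have ha' : z * algebraMap A (Localization.Away f) (f ^ n) =
          algebraMap A (Localization.Away f) a := ha
      have h1 : algebraMap B (Localization.Away (φ f)) (φ f ^ n * b) =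
          algebraMap B (Localization.Away (φ f)) (φ a) := by
        have h2 := congrArg (Localization.awayMap φ f) ha'
        rw [map_mul, hz, ← RingHom.comp_apply, ← RingHom.comp_apply (Localization.awayMap φ f),
          awayMap_comp_algebraMap, RingHom.comp_apply, RingHom.comp_apply, ← map_mul] at h2
        rw [← h2, map_pow, mul_comm]
      obtain ⟨⟨_, k, rfl⟩, hk⟩ := (IsLocalization.eq_iff_exists (Submonoid.powers (φ f)) _).mp h1
      refine ⟨k + n, a * f ^ k, ?_⟩
      show φ (a * f ^ k) = (f ^ (k + n)) • b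
      rw [Algebra.smul_def]
      show _ = φ (f ^ (k + n)) * b
      simp only at hk
      rw [map_mul, map_pow, map_pow, pow_add, mul_assoc, hk, mul_comm]
    obtain ⟨a, ha⟩ := this
    exact ⟨a, ha⟩

end LocRel

end Groth.Agent.H8.EtaLib
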