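import Mathlib
import Groth.Prelude.Def_W4c1chowmix47Eta
import Groth.Agent.Lib.Helper8.EtaPt.MM
import Groth.Agent.Lib.Helper8.EtaPt.Dom
import Groth.Agent.Lib.Helper8.NormalMinPrimes

set_option autoImplicit false
open EtaPt
universe u
namespace Groth.Agent.H8.EtaLib
variable (η : FieldEndo.{u})

open Groth.Agent.H8.NMP

theorem q_bijective_of_normal (A : Type u) [CommRing A]
    (hn : ∀ (p : Ideal A) [p.IsPrime],
      IsDomain (Localization.AtPrime p) ∧ IsIntegrallyClosed (Localization.AtPrime p))
    (hA : (minimalPrimes A).Finite)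
    (hη : ∀ p : PrimeSpectrum A, p.asIdeal ∈ minimalPrimes A →
      Function.Bijective (η.eta p.asIdeal.ResidueField)) :
    Function.Bijective (η.q A) := by
  haveI : IsReduced A := isReduced_ofLocalizationMaximal A fun m hm => by
    obtain ⟨h1, _⟩ := hn m
    infer_instance
  constructor
  · intro a b hab
    have h1 : η.t A a = η.t A b := congrArg Subtype.val hab
    exact t_injective_of_isReduced η A h1
  · intro x
    haveI : Finite (minimalPrimes A) := hA.to_subtype
    let I : minimalPrimes A → Ideal A := fun i => i.1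
    haveI hIp : ∀ i, (I i).IsPrime := fun i => i.2.1.1
    have hcop : Pairwise (Function.onFun IsCoprime I) := by
      intro i j hij
      refine isCoprime_of_minimalPrimes (fun m hm => ?_) i.2 j.2 (fun h => hij (Subtype.ext h))
      haveI := hm.isPrime
      exact (hn m).1
    have key : ∀ i : minimalPrimes A, ∃ d : A ⧸ I i,
        η.t (A ⧸ I i) d = η.Nmap (Ideal.Quotient.mk (I i)) (x : η.N A) := by
      intro i
      haveI : IsIntegrallyClosed (A ⧸ I i) := isIntegrallyClosed_quotient_minimalPrime hn i.2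
      have hInV : η.InV (A ⧸ I i) :=
        (inV_iff_of_isFractionRing η (A ⧸ I i) (I i).ResidueField).mpr (hη ⟨I i, hIp i⟩ i.2)
      obtain ⟨d, hd⟩ := (q_bijective_of_isIntegrallyClosed η (A ⧸ I i) hInV).2
        ⟨η.Nmap (Ideal.Quotient.mk (I i)) (x : η.N A), Nmap_mem_M η _ x.2⟩
      exact ⟨d, congrArg Subtype.val hd⟩
    choose d hd using key
    obtain ⟨a, ha⟩ := Ideal.pi_quotient_surjective hcop d
    refine ⟨a, Subtype.ext ?_⟩
    funext P
    obtain ⟨p, hp, hpP⟩ := Ideal.exists_minimalPrimes_le (bot_le : (⊥ : Ideal A) ≤ P.asIdeal)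
    let i : minimalPrimes A := ⟨p, hp⟩
    let π := Ideal.Quotient.mk (I i)
    have hker : RingHom.ker π ≤ P.asIdeal := by
      rw [Ideal.mk_ker]; exact hpP
    have hP'prime : (P.asIdeal.map π).IsPrime :=
      Ideal.map_isPrime_of_surjective Ideal.Quotient.mk_surjective hker
    let P' : PrimeSpectrum (A ⧸ I i) := ⟨P.asIdeal.map π, hP'prime⟩
    have hcomap : P.asIdeal = P'.asIdeal.comap π := by
      show P.asIdeal = (P.asIdeal.map π).comap π
      rw [Ideal.comap_map_of_surjective π Ideal.Quotient.mk_surjective]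
      have : Ideal.comap π ⊥ ≤ P.asIdeal := by
        rw [← RingHom.ker_eq_comap_bot]; exact hker
      exact (sup_eq_left.mpr this).symm
    have h1 : η.Nmap π (x : η.N A) P' = η.Nmap π (η.t A a) P' := by
      rw [η.Nmap_t_apply, ← hd i]
      show η.t (A ⧸ I i) (d i) P' = η.t (A ⧸ I i) (π a) P'
      rw [show π a = d i from ha i]
    rw [Nmap_apply_of_eq η π (x : η.N A) P' P hcomap,
      Nmap_apply_of_eq η π (η.t A a) P' P hcomap] at h1
    exact (map_injective η _ h1).symm

end Groth.Agent.H8.EtaLib
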